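import Cfsg.Agent.H2.TwF
import Cfsg.Agent.H4.Small_m3
import Cfsg.Agent.H1.Tight
import Mathlib
import Cfsg.Agent.H1.WittPerf_m3
import Cfsg.Agent.KFacts.TwF4.Full
import Cfsg.Agent.FastGrp
import Cfsg.Agent.Prune
set_option linter.all false
prune_inst 0x7f00000000000000000000000000000000000000000000000000000000000000000000000000000000000000000000000000000000000000000000000000000000000000000000000000000000000000003fffffffffffffffffffffffffffbeffbdffffffff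
open scoped Cfsg.Agent.FastGrp

-- part: H2/TwFRow
section
/-!
# `ℒ(G, U)` for `²F₄(q)` (helper2)

* `mem_calL` : the members of `ℒ(G, U)` are `J 1 9` and `J 0 8`;
* `lfAt` : `LfAt U`.
-/

set_option autoImplicit false

namespace Cfsg.Agent.H2.TwF

open Cfsg Cfsg.Agent.SplitTwo Cfsg.Agent.SplitTwo.ZS Cfsg.Agent.TitsThree.RankTwoZ Cfsg.Agent.KFacts.TwF4
open Cfsg.Agent.KFacts.TwF4.Arc Cfsg.Agent.KFacts.TwF4.Inv Cfsg.Agent.KFacts.TwF4.SylU Cfsg.Agent.KFacts.TwF4.Perf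
open Cfsg.Agent.KFacts.TwF4.Full
open scoped commutatorElement

universe u

variable {F : Type*} [Field F] {σ : F →+* F} {G : Type u} [Group G] (S : Full σ G)

theorem le_normalizer_of {D H : Subgroup G} (hH : H ≤ D ⊔ S.T) (hT : ∀ t ∈ S.T, ∀ x ∈ D, t * x * t⁻¹ ∈ D) :
    H ≤ Subgroup.normalizer (D : Set G) := by
  refine hH.trans (sup_le Subgroup.le_normalizer fun t ht => ?_)
  rw [Subgroup.mem_normalizer_iff]
  intro x
  refine ⟨fun hx => hT t ht x hx, fun hx => ?_⟩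
  have := hT t⁻¹ (inv_mem ht) _ hx
  have e : t⁻¹ * (t * x * t⁻¹) * t⁻¹⁻¹ = x := by group
  rwa [e] at this

theorem eq_of_sub {D H : Subgroup G} (hDH : D ≤ H) (hH : H ≤ D ⊔ S.T) (hT : ∀ t ∈ S.T, ∀ x ∈ D, t * x * t⁻¹ ∈ D)
    (hPN : ∀ E : Subgroup G, E ≤ D → (∀ d ∈ D, ∀ e ∈ E, d * e * d⁻¹ ∈ E) → ⁅E, E⁆ = E → E = ⊥ ∨ E = D)
    {L : Subgroup ↥H} (hL : L.IsSubnormal) (hLp : ⁅L, L⁆ = L) (hL1 : L ≠ ⊥) : L = D.subgroupOf H := by
  have hn : (D.subgroupOf H).Normal :=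
    (Subgroup.normal_subgroupOf_iff_le_normalizer hDH).2 (le_normalizer_of S hH hT)
  have hs := quot_solvable S hDH hn hH hT
  refine subnormal_perfect (D.subgroupOf H) (fun E hE hEn hEp => ?_) hL hLp hL1
  have hED : E.map H.subtype ≤ D := by
    rintro _ ⟨x, hx, rfl⟩
    exact Subgroup.mem_subgroupOf.1 (hE hx)
  rcases hPN (E.map H.subtype) hED (by
    rintro d hd _ ⟨x, hx, rfl⟩
    exact ⟨(⟨d, hDH hd⟩ * x * ⟨d, hDH hd⟩⁻¹ :), hEn _ (Subgroup.mem_subgroupOf.2 hd) x hx, rfl⟩)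
    (by rw [← Subgroup.map_commutator, hEp]) with h | h
  · exact Or.inl ((Subgroup.map_eq_bot_iff_of_injective _ H.subtype_injective).1 h)
  · right
    rw [← h, Subgroup.subgroupOf, Subgroup.comap_map_eq_self_of_injective H.subtype_injective]

variable [Finite F] [Finite G]

/-- **the members of `ℒ(G, U)`** -/
theorem mem_calL (hF : ∃ c : Fˣ, c ≠ 1) (hR : S.R.p = 2) (hO : pCore 2 G = ⊥) {L : Subgroup G}
    (hL : L ∈ calL (J S.XZ 1 8)) : L = J S.XZ 1 9 ∨ L = S.PL := by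
  have hT : ∀ a b : ℤ, ∀ t ∈ S.T, ∀ x ∈ J S.XZ a b, t * x * t⁻¹ ∈ J S.XZ a b := fun a b t ht x hx => S.T_conj_J ht hx
  have key : ∀ {D : Subgroup G}, L.subgroupOf (L ⊔ J S.XZ 1 8) = D.subgroupOf (L ⊔ J S.XZ 1 8) →
      D ≤ L ⊔ J S.XZ 1 8 → L = D := by
    intro D h1 h2
    have h3 := congrArg (Subgroup.map (L ⊔ J S.XZ 1 8).subtype) h1
    rw [Subgroup.subgroupOf_map_subtype, Subgroup.subgroupOf_map_subtype, inf_eq_left.2 h2,
      inf_eq_left.2 (le_sup_left : L ≤ L ⊔ J S.XZ 1 8)] at h3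
    exact h3
  have hC := hL.1
  obtain ⟨h1, h2, h3, -⟩ := hC
  rcases overU S (H := L ⊔ J S.XZ 1 8) le_sup_right with h | h | ⟨ha, hb⟩ | ⟨ha, hb⟩
  · exfalso
    apply hL.2.2
    have h4 : (pCore 2 ↥(L ⊔ J S.XZ 1 8)).map (L ⊔ J S.XZ 1 8).subtype = ⊥ := by
      rw [eq_bot_iff, ← hO]
      refine Lib.Cores.le_pCore ?_ ((Lib.Cores.pCore_isPGroup 2).map _)
      have h5 : (pCore 2 ↥(L ⊔ J S.XZ 1 8)).Normal := Lib.Cores.pCore_normal 2
      refine h5.map _ ?_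
      intro g
      exact ⟨⟨g, by rw [h]; exact Subgroup.mem_top g⟩, rfl⟩
    exact (Subgroup.map_eq_bot_iff_of_injective _ (L ⊔ J S.XZ 1 8).subtype_injective).1 h4
  · exact absurd (isSolvable_le h (BT_solvable S hR)) fun hs => H1.Tight.not_solvable_of_calL hL hs
  · exact Or.inl (key (eq_of_sub S ha hb (hT 1 9) (fun E h1 h2 h3 => J19_normal S hF hR h1 h2 h3) h3 h2 h1) ha)
  · exact Or.inr (key (eq_of_sub S ha hb (hT 0 8) (fun E h1 h2 h3 => PL_normal S hF hR h1 h2 h3) h3 h2 h1) ha)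

/-- `LfAt U` -/
theorem lfAt (hF : ∃ c : Fˣ, c ≠ 1) (hR : S.R.p = 2) : LfAt (J S.XZ 1 8) := by
  have Z8 := S.zsys8
  refine ⟨J S.XZ 1 9, J S.XZ 1 9, J_mono le_rfl (by norm_num), ?_, le_rfl, J19_perfect S hF, ?_⟩
  · intro hb
    have h28 : IsPGroup 2 (J S.XZ 2 8) := two_J S hR (by norm_num)
    have h1 := QTUniq.Local.le_map_pCore (p := 2) (U := J S.XZ 2 8) (X := J S.XZ 1 9)
      (J_mono (by norm_num) (by norm_num)) h28 (by
        have := Z8.le_normalizer (a := 2) (b := 8) (by norm_num)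
        norm_num at this
        exact this)
    rw [hb, Subgroup.map_bot] at h1
    obtain ⟨x, hx, hx1⟩ := Z8.exists_ne 2
    exact hx1 (by simpa using h1 (mem_J hx le_rfl (by norm_num)))
  · intro hc
    have hz : S.e 2 0 1 ∈ H7.Faithful.omZ (J S.XZ 1 8) := by
      refine H7.Faithful.mem_omZ.2 ⟨⟨mem_J (S.mX4 0 1) (by norm_num) (by norm_num), Subgroup.mem_centralizer_iff.2
        fun t ht => ?_⟩, ?_⟩
      · exact S.comm_PL (J_mono (by norm_num) le_rfl ht : t ∈ S.PL) (S.mem_Zc.2 ⟨1, rfl⟩)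
      · rw [pow_two, e_sq S, zero_mul, S.e_zero]
    have hn : S.n1 ∈ J S.XZ 1 9 := S.LO_le_J S.n1_mem_LO
    have h1 := Subgroup.mem_centralizer_iff.1 (hc hn) _ hz
    have h2 : S.n1 * S.e 2 0 1 * S.n1⁻¹ ∈ S.XZ 6 := S.n1_refl.mem' (S.mX4 0 1) (by norm_num)
    rw [← h1, mul_inv_cancel_right] at h2
    exact one_ne_zero (S.e_eq_one (S.X_inf_near (i := 4) (j := 6) (by norm_num) (by norm_num) (S.mX4 0 1) h2)).2

end Cfsg.Agent.H2.TwF
end

-- part: H2/CommInv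
section
/-!
# Groups in which the involutions of a Sylow 2-subgroup commute (helper2)
-/

set_option autoImplicit false

namespace Cfsg.Agent.H2

open Subgroup

/-- two involutions in a common 2-subgroup commute -/
def CommInv (X : Type*) [Group X] : Prop :=
  ∀ P : Subgroup X, IsPGroup 2 P → ∀ x ∈ P, ∀ y ∈ P, x * x = 1 → y * y = 1 → x * y = y * x

variable {X Y : Type*} [Group X] [Group Y]

theorem CommInv.of_injective (h : CommInv Y) (f : X →* Y) (hf : Function.Injective f) : CommInv X := by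
  intro P hP x hx y hy hxx hyy
  apply hf
  rw [map_mul, map_mul]
  exact h (P.map f) (hP.map f) (f x) ⟨x, hx, rfl⟩ (f y) ⟨y, hy, rfl⟩ (by rw [← map_mul, hxx, map_one])
    (by rw [← map_mul, hyy, map_one])

theorem CommInv.congr (e : X ≃* Y) (h : CommInv Y) : CommInv X := h.of_injective e.toMonoidHom e.injective

/-- one Sylow 2-subgroup -/
theorem CommInv.of_sylow [Finite X] (P : Sylow 2 X)
    (h : ∀ x ∈ P, ∀ y ∈ P, x * x = 1 → y * y = 1 → x * y = y * x) : CommInv X := by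
  have hf : Fact (Nat.Prime 2) := ⟨Nat.prime_two⟩
  intro R hR x hx y hy hxx hyy
  obtain ⟨R', hR'⟩ := hR.exists_le_sylow
  obtain ⟨g, hg⟩ := MulAction.exists_smul_eq X R' P
  have key : ∀ z ∈ R, g * z * g⁻¹ ∈ P := by
    intro z hz
    have h1 : g * z * g⁻¹ ∈ ((g • R' : Sylow 2 X) : Subgroup X) := by
      rw [Sylow.coe_subgroup_smul]
      exact ⟨z, hR' hz, rfl⟩
    rw [hg] at h1
    exact h1
  have h1 := h _ (key x hx) _ (key y hy) (by
    rw [show g * x * g⁻¹ * (g * x * g⁻¹) = g * (x * x) * g⁻¹ by group, hxx]; group) (by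
    rw [show g * y * g⁻¹ * (g * y * g⁻¹) = g * (y * y) * g⁻¹ by group, hyy]; group)
  have h2 : g * (x * y) * g⁻¹ = g * (y * x) * g⁻¹ := by
    calc g * (x * y) * g⁻¹ = g * x * g⁻¹ * (g * y * g⁻¹) := by group
      _ = g * y * g⁻¹ * (g * x * g⁻¹) := h1
      _ = _ := by group
  exact mul_left_cancel (mul_right_cancel h2)

/-- two involutions with a product of 2-power order lie in a common 2-subgroup -/
theorem exists_two_group {x y : X} (hx : x * x = 1) (hy : y * y = 1) {k : ℕ} (hk : (x * y) ^ 2 ^ k = 1) :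
    ∃ P : Subgroup X, IsPGroup 2 P ∧ x ∈ P ∧ y ∈ P := by
  have hxi : x⁻¹ = x := inv_eq_of_mul_eq_one_left hx
  have hyi : y⁻¹ = y := inv_eq_of_mul_eq_one_left hy
  have hA : IsPGroup 2 (zpowers x) := by
    rintro ⟨_, ⟨m, rfl⟩⟩
    refine ⟨1, Subtype.ext ?_⟩
    show (x ^ m) ^ 2 ^ 1 = 1
    rw [pow_one, ← zpow_natCast, ← zpow_mul, mul_comm, zpow_mul]
    norm_cast
    rw [pow_two, hx, one_zpow]
  have hB : IsPGroup 2 (zpowers (x * y)) := by
    rintro ⟨_, ⟨m, rfl⟩⟩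
    refine ⟨k, Subtype.ext ?_⟩
    show ((x * y) ^ m) ^ 2 ^ k = 1
    rw [← zpow_natCast, ← zpow_mul, mul_comm, zpow_mul, zpow_natCast, hk, one_zpow]
  have hn : zpowers x ≤ normalizer (zpowers (x * y) : Set X) := by
    rw [zpowers_le, mem_normalizer_iff]
    have key : ∀ z ∈ zpowers (x * y), x * z * x⁻¹ ∈ zpowers (x * y) := by
      rintro _ ⟨m, rfl⟩
      refine ⟨-m, ?_⟩
      show (x * y) ^ (-m) = x * (x * y) ^ m * x⁻¹
      rw [← conj_zpow, zpow_neg, ← inv_zpow]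
      congr 1
      rw [mul_inv_rev, hxi, hyi, ← mul_assoc, hx, one_mul]
    intro z
    refine ⟨key z, fun h => ?_⟩
    have h1 := key _ h
    have e : x * (x * z * x⁻¹) * x⁻¹ = z := by
      calc x * (x * z * x⁻¹) * x⁻¹ = (x * x) * z * (x * x)⁻¹ := by group
        _ = z := by rw [hx]; group
    rwa [e] at h1
  refine ⟨zpowers x ⊔ zpowers (x * y), IsPGroup.to_sup_of_normal_right' hA hB hn, mem_sup_left (mem_zpowers x), ?_⟩
  have h1 : x⁻¹ * (x * y) ∈ zpowers x ⊔ zpowers (x * y) :=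
    mul_mem (inv_mem (mem_sup_left (mem_zpowers x))) (mem_sup_right (mem_zpowers (x * y)))
  rwa [inv_mul_cancel_left] at h1

theorem CommInv.comm (h : CommInv X) {x y : X} (hx : x * x = 1) (hy : y * y = 1) {k : ℕ} (hk : (x * y) ^ 2 ^ k = 1) :
    x * y = y * x := by
  obtain ⟨P, hP, h1, h2⟩ := exists_two_group hx hy hk
  exact h P hP x h1 y h2 hx hy

end Cfsg.Agent.H2
end

-- part: H2/TwFFin
section
/-!
# `²F₄(q)`, `q ≥ 8` (helper2)

* `row : LfRow G`, `rowT : RowT G`, `rowL : RowL Q G` with `CommInv (Q i)`.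
-/

set_option autoImplicit false

namespace Cfsg.Agent.H2.TwF

open Cfsg Cfsg.Lie Cfsg.Agent.SplitTwo Cfsg.Agent.SplitTwo.ZS Cfsg.Agent.TitsThree.RankTwoZ Cfsg.Agent.KFacts.TwF4
open Cfsg.Agent.KFacts.TwF4.Arc Cfsg.Agent.KFacts.TwF4.Inv Cfsg.Agent.KFacts.TwF4.SylU Cfsg.Agent.KFacts.TwF4.Perf
open Cfsg.Agent.KFacts.TwF4.Full Cfsg.Agent.Lib.Cores
open scoped commutatorElement

universe u v

/-! ### abstract part -/

/-- the involutions of a quotient -/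
theorem commInv_quot {D : Type*} [Group D] [Finite D] (V : Subgroup D) [V.Normal] (P : Sylow 2 D) (A : Subgroup D)
    (hPA : ∀ u ∈ P, ∃ a ∈ A, a⁻¹ * u ∈ V)
    (hA : ∀ a ∈ A, ∀ b ∈ A, a * a ∈ V → b * b ∈ V → a * b = b * a) : CommInv (D ⧸ V) := by
  have hf : Fact (Nat.Prime 2) := ⟨Nat.prime_two⟩
  refine CommInv.of_sylow (P.mapSurjective (QuotientGroup.mk'_surjective V)) ?_
  have key : ∀ x ∈ P.mapSurjective (QuotientGroup.mk'_surjective V), ∃ a ∈ A, QuotientGroup.mk' V a = x := by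
    intro x hx
    have hx' : x ∈ ((P : Subgroup D).map (QuotientGroup.mk' V)) := hx
    obtain ⟨u, hu, rfl⟩ := hx'
    obtain ⟨a, ha, hv⟩ := hPA u hu
    refine ⟨a, ha, ?_⟩
    rw [QuotientGroup.mk'_eq_mk']
    exact ⟨_, hv, by group⟩
  intro x hx y hy hxx hyy
  obtain ⟨a, ha, rfl⟩ := key x hx
  obtain ⟨b, hb, rfl⟩ := key y hy
  rw [← map_mul] at hxx hyy ⊢
  rw [← map_mul]
  have h1 : a * a ∈ V := by rwa [QuotientGroup.mk'_apply, QuotientGroup.eq_one_iff] at hxx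
  have h2 : b * b ∈ V := by rwa [QuotientGroup.mk'_apply, QuotientGroup.eq_one_iff] at hyy
  rw [hA a ha b hb h1 h2]

section coord

variable {F : Type*} [Field F] {σ : F →+* F} {G : Type u} [Group G] (S : Full σ G)
variable [Finite F] [Finite G]

include S in
theorem pCore_eq_bot [IsSimpleGroup G] (hF : ∃ c : Fˣ, c ≠ 1) : pCore 2 G = ⊥ := by
  have hn : (pCore 2 G).Normal := Lib.Cores.pCore_normal 2
  rcases hn.eq_bot_or_eq_top with h | h
  · exact h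
  · exfalso
    obtain ⟨c, hc⟩ := hF
    exact hc (torus_mem_two S (pCore_isPGroup (G := G) 2) (by rw [h]; exact Subgroup.mem_top (S.h c c))).1

/-- a Sylow subgroup of `D ≥ U` -/
theorem exists_sylow_sub (hF : ∃ c : Fˣ, c ≠ 1) (hR : S.R.p = 2) {D : Subgroup G} (hD : J S.XZ 1 8 ≤ D) :
    ∃ P : Sylow 2 ↥D, ∀ x : ↥D, x ∈ P ↔ (x : G) ∈ J S.XZ 1 8 := by
  obtain ⟨P, hP⟩ := exists_sylow S hF hR
  refine ⟨P.subtype (by rw [hP]; exact hD), fun x => ?_⟩
  show (x : G) ∈ (P : Subgroup G) ↔ _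
  rw [hP]

theorem commInv_J19 (hF : ∃ c : Fˣ, c ≠ 1) (hR : S.R.p = 2) :
    CommInv (↥(J S.XZ 1 9) ⧸ pCore 2 ↥(J S.XZ 1 9)) := by
  have Z8 := S.zsys8
  obtain ⟨P, hP⟩ := exists_sylow_sub S hF hR (D := J S.XZ 1 9) (J_mono le_rfl (by norm_num))
  have hV : (J S.XZ 2 8).subgroupOf (J S.XZ 1 9) ≤ pCore 2 ↥(J S.XZ 1 9) := by
    refine le_pCore ?_ ((two_J S hR (a := 2) (b := 8) (by norm_num)).comap_of_injective _ (Subgroup.subtype_injective _))
    refine (Subgroup.normal_subgroupOf_iff_le_normalizer (J_mono (by norm_num) (by norm_num))).2 ?_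
    have := Z8.le_normalizer (a := 2) (b := 8) (by norm_num)
    norm_num at this
    exact this
  refine commInv_quot _ P ((S.XZ 1).subgroupOf (J S.XZ 1 9)) (fun u hu => ?_) ?_
  · obtain ⟨x, hx, y, hy, e⟩ := Z8.split_ll (a := 1) (b := 8) (by norm_num) (by norm_num) ((hP u).1 hu)
    refine ⟨⟨x, mem_J hx le_rfl (by norm_num)⟩, Subgroup.mem_subgroupOf.2 hx, hV (Subgroup.mem_subgroupOf.2 ?_)⟩
    show x⁻¹ * (u : G) ∈ J S.XZ 2 8
    rw [e, inv_mul_cancel_left]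
    exact hy
  · rintro ⟨a, ha'⟩ ha ⟨b, hb'⟩ hb - -
    obtain ⟨s, rfl⟩ := (mem_X1 S).1 (Subgroup.mem_subgroupOf.1 ha)
    obtain ⟨t, rfl⟩ := (mem_X1 S).1 (Subgroup.mem_subgroupOf.1 hb)
    apply Subtype.ext
    show S.o 0 s * S.o 0 t = S.o 0 t * S.o 0 s
    rw [S.o_add, S.o_add, add_comm]

theorem commInv_PL (hF : ∃ c : Fˣ, c ≠ 1) (hR : S.R.p = 2) : CommInv (↥S.PL ⧸ pCore 2 ↥S.PL) := by
  have Z8 := S.zsys8
  obtain ⟨P, hP⟩ := exists_sylow_sub S hF hR (D := S.PL) (J_mono (by norm_num) le_rfl)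
  have hV : (J S.XZ 1 7).subgroupOf S.PL ≤ pCore 2 ↥S.PL := by
    refine le_pCore ?_ ((two_J S hR (a := 1) (b := 7) (by norm_num)).comap_of_injective _ (Subgroup.subtype_injective _))
    refine (Subgroup.normal_subgroupOf_iff_le_normalizer (J_mono (by norm_num) (by norm_num))).2 ?_
    have := Z8.le_normalizer (a := 1) (b := 7) (by norm_num)
    norm_num at this
    exact this
  have hV2 : ∀ x : ↥S.PL, x ∈ pCore 2 ↥S.PL → (x : G) ∈ J S.XZ 1 7 := by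
    intro x hx
    refine O2_PL S hF hR (N := (pCore 2 ↥S.PL).map S.PL.subtype) (Subgroup.map_subtype_le _)
      ((pCore_isPGroup 2).map _) ?_ ⟨x, hx, rfl⟩
    rintro g hg _ ⟨y, hy, rfl⟩
    exact ⟨(⟨g, hg⟩ * y * ⟨g, hg⟩⁻¹ :), (Lib.Cores.pCore_normal 2).conj_mem y hy ⟨g, hg⟩, rfl⟩
  refine commInv_quot _ P ((S.XZ 8).subgroupOf S.PL) (fun u hu => ?_) ?_
  · obtain ⟨x, hx, y, hy, e⟩ := Z8.split_rl (a := 1) (b := 8) (by norm_num) (by norm_num) ((hP u).1 hu)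
    refine ⟨⟨x, mem_J hx (by norm_num) le_rfl⟩, Subgroup.mem_subgroupOf.2 hx, hV (Subgroup.mem_subgroupOf.2 ?_)⟩
    show x⁻¹ * (u : G) ∈ J S.XZ 1 7
    rw [e, inv_mul_cancel_left]
    exact hy
  · have key : ∀ a : ↥S.PL, a ∈ (S.XZ 8).subgroupOf S.PL → a * a ∈ pCore 2 ↥S.PL → ∃ u, S.e 4 0 u = (a : G) := by
      intro a ha haa
      obtain ⟨p, u, h⟩ := (mem_X8 S).1 (Subgroup.mem_subgroupOf.1 ha)
      have h1 := hV2 _ haa
      have h2 : (a : G) * a ∈ J S.XZ 1 7 := h1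
      rw [← h, e_sq S] at h2
      have h3 : S.e 4 0 (p * σ p) = 1 :=
        Z8.inter_one 1 (mem_J (S.mX8 0 (p * σ p)) (by norm_num : (8 : ℤ) ≤ 8) le_rfl) h2 (by norm_num) (by norm_num)
          (by norm_num) (by norm_num) (Or.inr (by norm_num))
      have h4 := (S.e_eq_one h3).2
      have h5 : p = 0 := by
        rcases mul_eq_zero.1 h4 with h5 | h5
        · exact h5
        · exact (map_eq_zero σ).1 h5
      exact ⟨u, by rw [← h, h5]⟩
    intro a ha b hb haa hbb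
    obtain ⟨s, hs⟩ := key a ha haa
    obtain ⟨t, ht⟩ := key b hb hbb
    apply Subtype.ext
    show (a : G) * b = b * a
    rw [← hs, ← ht, S.e_mul, S.e_mul]
    simp only [map_zero, mul_zero, add_zero, add_comm]

/-- the two parabolic subgroups -/
def Dd (i : Fin 2) : Subgroup G := if i = 0 then J S.XZ 1 9 else S.PL

theorem rowT_model [IsSimpleGroup G] (hF : ∃ c : Fˣ, c ≠ 1) (hR : S.R.p = 2) : H1.QsNode.RowT G := by
  obtain ⟨P, hP⟩ := exists_sylow S hF hR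
  refine H1.QsNode.RowT.of_one P fun L hL => ?_
  rw [hP] at hL ⊢
  rcases mem_calL S hF hR (pCore_eq_bot S hF) hL with rfl | rfl
  · exact J_mono le_rfl (by norm_num)
  · exact J_mono (by norm_num) le_rfl

theorem rowL_model [IsSimpleGroup G] (hF : ∃ c : Fˣ, c ≠ 1) (hR : S.R.p = 2) :
    H1.RgdRow.RowL (fun i : Fin 2 => ↥(Dd S i) ⧸ pCore 2 ↥(Dd S i)) G := by
  obtain ⟨P, hP⟩ := exists_sylow S hF hR
  refine H1.RgdRow.RowL.of_one P fun L hL => ?_
  rw [hP] at hL ⊢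
  rcases mem_calL S hF hR (pCore_eq_bot S hF) hL with rfl | rfl
  · exact ⟨(J_mono le_rfl (by norm_num)).trans Subgroup.le_normalizer, 0, ⟨MulEquiv.refl _⟩⟩
  · exact ⟨(J_mono (by norm_num) le_rfl : J S.XZ 1 8 ≤ J S.XZ 0 8).trans Subgroup.le_normalizer, 1, ⟨MulEquiv.refl _⟩⟩

theorem commInv_Dd (hF : ∃ c : Fˣ, c ≠ 1) (hR : S.R.p = 2) (i : Fin 2) :
    CommInv (↥(Dd S i) ⧸ pCore 2 ↥(Dd S i)) := by
  fin_cases i
  · exact commInv_J19 S hF hR
  · exact commInv_PL S hF hR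

theorem row_model (hF : ∃ c : Fˣ, c ≠ 1) (hR : S.R.p = 2) : LfRow G := by
  obtain ⟨P, hP⟩ := exists_sylow S hF hR
  refine LfRow.of_one P ?_
  rw [hP]
  exact lfAt S hF hR

end coord

/-- the parameters of `²F₄(q)`, `q ≥ 8` -/
theorem exists_full {K : Type v} [Group K] (h : Iso2F4 K) :
    ∃ (F : Type) (_ : Field F) (_ : Finite F) (σ : F →+* F) (G : Type) (_ : Group G) (_ : Finite G)
      (S : Full σ G), (∃ c : Fˣ, c ≠ 1) ∧ S.R.p = 2 ∧ Nonempty (G ≃* K) := by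
  obtain ⟨F, _, _, m, hm, hK, ⟨e⟩⟩ := h
  obtain ⟨φ, hφ⟩ := Cfsg.Agent.ChevalleyStructure.TwF4.TwistedFix.exists_rln hK
  have := Cfsg.Agent.ChevalleyStructure.TwF4.Twisted.charP_two hK
  have hfin : Finite ↥(twistedF4 F (2 ^ m)) := inferInstance
  have hF : ∃ c : Fˣ, c ≠ 1 := by
    have h1 : 1 < Nat.card Fˣ := by
      rw [Nat.card_units, Nat.card_eq_fintype_card, hK]
      have : 2 ^ 3 ≤ 2 ^ (2 * m + 1) := Nat.pow_le_pow_right (by norm_num) (by omega)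
      omega
    have h2 : Nontrivial Fˣ := Finite.one_lt_card_iff_nontrivial.1 h1
    exact exists_ne 1
  exact ⟨F, inferInstance, inferInstance, φ, ↥(twistedF4 F (2 ^ m)), inferInstance, hfin,
    Cfsg.Agent.KFacts.TwF4.Inst.full hK hφ, hF, rfl, ⟨e.symm⟩⟩

variable {G : Type u} [Group G]

/-- **`LfRow` for `²F₄(q)`** -/
theorem row (h : Iso2F4 G) : LfRow G := by
  obtain ⟨F, _, _, σ, X, _, _, S, hF, hR, ⟨e⟩⟩ := exists_full h
  exact (row_model S hF hR).congr e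

/-- **`RowT` for `²F₄(q)`** -/
theorem rowT [Finite G] [IsSimpleGroup G] (h : Iso2F4 G) : H1.QsNode.RowT G := by
  obtain ⟨F, _, _, σ, X, _, _, S, hF, hR, ⟨e⟩⟩ := exists_full h
  have hnt : Nontrivial X := e.toEquiv.nontrivial
  have : IsSimpleGroup X := IsSimpleGroup.isSimpleGroup_of_surjective e.symm.toMonoidHom e.symm.surjective
  exact (rowT_model S hF hR).congr e.symm

/-- **`RowL` for `²F₄(q)`** -/
theorem rowL [Finite G] [IsSimpleGroup G] (h : Iso2F4 G) :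
    ∃ (Q : Fin 2 → Type) (_ : ∀ i, Group (Q i)), H1.RgdRow.RowL Q G ∧ ∀ i, CommInv (Q i) := by
  obtain ⟨F, _, _, σ, X, _, _, S, hF, hR, ⟨e⟩⟩ := exists_full h
  have hnt : Nontrivial X := e.toEquiv.nontrivial
  have : IsSimpleGroup X := IsSimpleGroup.isSimpleGroup_of_surjective e.symm.toMonoidHom e.symm.surjective
  exact ⟨fun i => ↥(Dd S i) ⧸ pCore 2 ↥(Dd S i), fun i => inferInstance, (rowL_model S hF hR).congr e.symm,
    commInv_Dd S hF hR⟩

/-- for `L ∈ ℒ(G, T)`, two involutions in a common 2-subgroup of `L / O₂(L)` commute -/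
theorem commInv [Finite G] [IsSimpleGroup G] (h : Iso2F4 G) {T : Sylow 2 G} {L : Subgroup G}
    (hL : L ∈ calL (T : Subgroup G)) : CommInv (↥L ⧸ pCore 2 ↥L) := by
  obtain ⟨Q, _, h1, h2⟩ := rowL h
  obtain ⟨-, i, ⟨f⟩⟩ := h1 T L hL
  exact (h2 i).congr f

end Cfsg.Agent.H2.TwF
end
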