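import Cfsg.Agent.H4.Small_m3
import Cfsg.Agent.QTNorm.SporQMinus
import Cfsg.Agent.KFacts.J3
import Cfsg.Agent.Transfer.TausskyTwoGroup
import Cfsg.Agent.KFacts.J2.Facts
import Cfsg.Agent.Classification.RTwo.UThreeThree
import Cfsg.Agent.SmallSimple.S1000.PSLFacts
import Cfsg.Agent.NotResT.Comp_m3
import Cfsg.Agent.FastGrp
import Cfsg.Agent.Prune
set_option linter.all false

section
prune_inst 0x7f00000000000000000000000000000000000000000000000000000000000000000000000000000000000000000000000000000000000000000000000000000000000000000000000000000000000000003fffffffffffffffffffffffffffbeffbdffffffff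

-- part: H2/UniqC
section
set_option linter.all false
open scoped Cfsg.Agent.FastGrp

/-!
# `C_G(Ω₁(Z(T)))` lies in a unique maximal 2-local subgroup: criterion, `J₂`, `J₃` (helper2)
-/

set_option autoImplicit false

namespace Cfsg.Agent.H2

open Subgroup Cfsg Cfsg.Agent.Lib.Cores
open Cfsg.Agent.QTUniq.Local Cfsg.Agent.H7.Faithful

universe u v

section crit

variable {G : Type u} [Group G]

/-- `C_G(Ω₁(Z(T))) = C_G(z)` -/
theorem centralizer_omZ {z : G} (hz : z * z = 1) (T : Subgroup G) (hzT : z ∈ T) (hT : ∀ t ∈ T, t * z = z * t)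
    (hcent : ∀ x ∈ T, x * x = 1 → (∀ t ∈ T, t * x = x * t) → x = 1 ∨ x = z) :
    centralizer (omZ T : Set G) = centralizer ({z} : Set G) := by
  ext g
  rw [mem_centralizer_singleton_iff, mem_centralizer_iff]
  constructor
  · intro h
    exact (h z (mem_omZ.2 ⟨⟨hzT, mem_centralizer_iff.2 fun t ht => hT t ht⟩, by rw [pow_two]; exact hz⟩)).symm
  · intro h x hx
    obtain ⟨⟨h1, h2⟩, h3⟩ := mem_omZ.1 hx
    rcases hcent x h1 (by rw [← pow_two]; exact h3) (fun t ht => mem_centralizer_iff.1 h2 t ht) with rfl | rfl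
    · simp
    · exact h.symm

/-- **criterion**: `Z(T)` contains a unique involution `z`, and the normalizers of the elementary abelian normal subgroups of
`C_G(z)` centralize `z` -/
theorem UniqC.of_elab [Finite G] {z : G} (hz : z * z = 1) (hz1 : z ≠ 1) (T : Sylow 2 G) (hzT : z ∈ T)
    (hT : ∀ t ∈ (T : Subgroup G), t * z = z * t)
    (hcent : ∀ x ∈ (T : Subgroup G), x * x = 1 → (∀ t ∈ (T : Subgroup G), t * x = x * t) → x = 1 ∨ x = z)
    (h : ∀ A : Subgroup G, A ≤ (T : Subgroup G) → z ∈ A → (∀ a ∈ A, ∀ b ∈ A, a * b = b * a) → (∀ a ∈ A, a * a = 1) →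
      centralizer ({z} : Set G) ≤ normalizer (A : Set G) → normalizer (A : Set G) ≤ centralizer ({z} : Set G)) :
    UniqC G := by
  have hf : Fact (Nat.Prime 2) := ⟨Nat.prime_two⟩
  refine UniqC.of_one T ?_
  rw [centralizer_omZ hz _ hzT hT hcent]
  refine Uniq.of_le (isTwoLocal_centralizer hz hz1) ?_
  rintro M ⟨R, hR, hR1, rfl⟩ hCM
  have hTC : (T : Subgroup G) ≤ centralizer ({z} : Set G) := fun t ht => mem_centralizer_singleton_iff.2 (hT t ht)
  have hTM := hTC.trans hCM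
  have hRT := le_sylow T hR hTM
  have hN := normalizer_le_omZ R
  refine hN.trans (h (omZ R) ((omZ_le R).trans hRT) ?_ ?_ ?_ (hCM.trans hN))
  · -- `z ∈ R`
    have hne : R.subgroupOf (T : Subgroup G) ≠ ⊥ := by
      intro h0
      apply hR1
      have h3 := congrArg (Subgroup.map (T : Subgroup G).subtype) h0
      rwa [Subgroup.subgroupOf_map_subtype, inf_eq_left.2 hRT, Subgroup.map_bot] at h3
    have hn : (R.subgroupOf (T : Subgroup G)).Normal := ⟨fun p hp g => (mem_normalizer_iff.1 (hTM g.2) p).1 hp⟩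
    obtain ⟨x, hx2, hx3, hx1⟩ := Cfsg.Agent.Transfer.TausskyTwoGroup.exists_ne_one_mem_inf_center T.2
      (R.subgroupOf (T : Subgroup G)) hne
    -- a power of `x` is an involution
    have hxp : ∃ y : T, y ∈ R.subgroupOf (T : Subgroup G) ∧ y ∈ center T ∧ y ≠ 1 ∧ y * y = 1 := by
      obtain ⟨n, hn⟩ := IsPGroup.iff_orderOf.1 T.2 x
      have hn0 : n ≠ 0 := by
        rintro rfl
        rw [pow_zero, orderOf_eq_one_iff] at hn
        exact hx1 hn
      refine ⟨x ^ 2 ^ (n - 1), pow_mem hx2 _, pow_mem hx3 _, ?_, ?_⟩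
      · intro h1
        have h2 := orderOf_dvd_of_pow_eq_one h1
        rw [hn, Nat.pow_dvd_pow_iff_le_right (by norm_num)] at h2
        omega
      · rw [← pow_two, ← pow_mul, ← pow_succ, Nat.sub_add_cancel (Nat.one_le_iff_ne_zero.2 hn0), ← hn]
        exact pow_orderOf_eq_one x
    obtain ⟨y, hy1, hy2, hy3, hy4⟩ := hxp
    have h1 := hcent y y.2 (congrArg Subtype.val hy4) (fun t ht => congrArg Subtype.val (mem_center_iff.1 hy2 ⟨t, ht⟩))
    rcases h1 with h1 | h1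
    · exact absurd (Subtype.ext h1) hy3
    · have hzR : z ∈ R := by rw [← h1]; exact mem_subgroupOf.1 hy1
      refine mem_omZ.2 ⟨⟨hzR, mem_centralizer_iff.2 fun r hr => hT r (hRT hr)⟩, by rw [pow_two]; exact hz⟩
  · intro a ha b hb
    exact (mem_centralizer_iff.1 (omZ_le_centralizer R ha) b (omZ_le R hb)).symm
  · intro a ha
    rw [← pow_two]
    exact (mem_omZ.1 ha).2

theorem norm_le_of_pair {z : G} (hz1 : z ≠ 1) {A : Subgroup G} (hzA : z ∈ A) (hA : ∀ a ∈ A, a = 1 ∨ a = z) :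
    normalizer (A : Set G) ≤ centralizer ({z} : Set G) := by
  intro g hg
  rw [mem_centralizer_singleton_iff]
  rcases hA _ ((mem_normalizer_iff.1 hg z).1 hzA) with h | h
  · exact absurd (conj_eq_one_iff.1 h) hz1
  · calc g * z = (g * z * g⁻¹) * g := by group
      _ = z * g := by rw [h]

/-- **criterion**: the elementary abelian normal subgroups of `C_G(z)` lie in `{1, z}` -/
theorem UniqC.of_pair [Finite G] {z : G} (hz : z * z = 1) (hz1 : z ≠ 1) (T : Sylow 2 G) (hzT : z ∈ T)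
    (hT : ∀ t ∈ (T : Subgroup G), t * z = z * t)
    (hcent : ∀ x ∈ (T : Subgroup G), x * x = 1 → (∀ t ∈ (T : Subgroup G), t * x = x * t) → x = 1 ∨ x = z)
    (h : ∀ A : Subgroup G, A ≤ (T : Subgroup G) → z ∈ A → (∀ a ∈ A, ∀ b ∈ A, a * b = b * a) → (∀ a ∈ A, a * a = 1) →
      centralizer ({z} : Set G) ≤ normalizer (A : Set G) → ∀ a ∈ A, a = 1 ∨ a = z) : UniqC G :=
  UniqC.of_elab hz hz1 T hzT hT hcent fun A h1 h2 h3 h4 h5 => norm_le_of_pair hz1 h2 (h A h1 h2 h3 h4 h5)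

end crit

section model

open Cfsg.Agent.J2Type.Model Cfsg.Agent.J2Type.CStruct Cfsg.Agent.QTNorm

variable {G : Type u} [Group G] {z : G}
variable {Q : Subgroup (centralizer ({z} : Set G))} {v : Fin 5 → centralizer ({z} : Set G)}
  {ρ : centralizer ({z} : Set G) →* SP} {zc : centralizer ({z} : Set G)}

theorem exists_rot (i : Fin 5) : ∃ g : SP, Equiv.Perm.sign g.σ = 1 ∧ ∑ j, g.s j = 0 ∧ g.σ i ≠ i := by
  refine ⟨⟨finRotate 5, fun _ => 0⟩, by decide, by decide, ?_⟩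
  show finRotate 5 i ≠ i
  revert i
  decide

/-- the centralizer of a 2-central involution is `2^{1+4}_- : A₅` -/
theorem uniqC_of_model [Finite G] (M : IsModel Q zc v ρ) (hzc : (zc : G) = z) (T : Sylow 2 G)
    (hT : ∀ x ∈ T, x * z = z * x) : UniqC G := by
  obtain ⟨i0, h0⟩ := exists_fix T hT ρ
  have hz : z * z = 1 := by rw [← hzc]; exact congrArg Subtype.val M.z_sq
  have hz1 : z ≠ 1 := fun h => M.z_ne (Subtype.ext (by rw [hzc]; exact h))
  have hQT := QG_le M T hT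
  have hzT : z ∈ T := by rw [← hzc]; exact hQT (coe_mem_QG.2 M.z_mem)
  obtain ⟨j, hj⟩ : ∃ j : Fin 5, j ≠ i0 := ⟨i0 + 1, succ_ne' i0⟩
  have hvT : ((v j : centralizer ({z} : Set G)) : G) ∈ T := hQT (coe_mem_QG.2 (M.v_mem j))
  refine UniqC.of_pair hz hz1 T hzT hT ?_ ?_
  · intro x hx hxx hxT
    have hzp : ∀ y ∈ zpowers x, y = 1 ∨ y = x := by
      rintro _ ⟨m, rfl⟩
      rcases Int.even_or_odd' m with ⟨k, rfl | rfl⟩
      · left
        show x ^ (2 * k) = 1
        rw [zpow_mul]; norm_cast; rw [pow_two, hxx, one_zpow]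
      · right
        show x ^ (2 * k + 1) = x
        rw [zpow_add, zpow_mul, zpow_one]; norm_cast; rw [pow_two, hxx, one_zpow, one_mul]
    have h1 := cases_of_mem M T hT h0 (V := zpowers x) (c := cc x (hT x hx)) (by
        intro t ht
        rw [mem_normalizer_iff]
        intro y
        have h2 : ∀ y ∈ zpowers x, t * y = y * t := by
          intro y hy
          rcases hzp y hy with rfl | rfl
          · simp
          · exact hxT t ht
        constructor
        · intro hy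
          rw [h2 y hy, mul_inv_cancel_right]
          exact hy
        · intro hy
          have h3 := h2 _ hy
          have h4 : t * y * t⁻¹ = y := by
            have h5 : t * (t * y * t⁻¹) * t⁻¹ = t * y * t⁻¹ := by rw [h3, mul_inv_cancel_right]
            have h6 : t * y * t⁻¹ = t⁻¹ * (t * (t * y * t⁻¹) * t⁻¹) * t := by group
            rw [h6, h5]
            group
          rwa [h4] at hy)
      (fun a ha b hb => by
        rcases hzp a ha with rfl | rfl
        · simp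
        · rcases hzp b hb with rfl | rfl
          · simp
          · rfl)
      (fun a ha => by
        rcases hzp a ha with rfl | rfl
        · simp
        · exact hxx) (mem_zpowers x)
    rcases h1 with h1 | h1 | ⟨a, h1⟩
    · exact Or.inl (congrArg Subtype.val h1)
    · right
      rw [← hzc]
      exact congrArg Subtype.val h1
    · exfalso
      have h2 : (v j : G) * x = x * v j := hxT _ hvT
      have h3 : (zp zc 0 * v j) * (zp zc a * v i0) = (zp zc a * v i0) * (zp zc 0 * v j) := by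
        rw [zp_zero, one_mul, ← h1]
        exact Subtype.ext h2
      rw [zv_comm_iff M] at h3
      exact hj h3
  · intro A hAT hzA hAa hAs hCA a ha
    have hAn : (T : Subgroup G) ≤ normalizer (A : Set G) := fun t ht =>
      hCA (mem_centralizer_singleton_iff.2 (hT t ht))
    have key : ∀ c : centralizer ({z} : Set G), (c : G) ∈ A → c = 1 ∨ c = zc ∨ ∃ a, c = zp zc a * v i0 := fun c hc =>
      cases_of_mem M T hT h0 hAn hAa hAs hc
    rcases key (cc a (hT a (hAT ha))) ha with h1 | h1 | ⟨b, h1⟩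
    · exact Or.inl (congrArg Subtype.val h1)
    · right
      rw [← hzc]
      exact congrArg Subtype.val h1
    · exfalso
      obtain ⟨g, hg1, hg2, hg3⟩ := exists_rot i0
      obtain ⟨c, hc⟩ := (M.range g).2 ⟨hg1, hg2⟩
      have h2 : ((c * (cc a (hT a (hAT ha))) * c⁻¹ : centralizer ({z} : Set G)) : G) ∈ A :=
        (mem_normalizer_iff.1 (hCA c.2) a).1 ha
      have h3 : c * (cc a (hT a (hAT ha))) * c⁻¹ = zp zc (b + g.s i0) * v (g.σ i0) := by
        rw [h1]
        calc c * (zp zc b * v i0) * c⁻¹ = (c * zp zc b) * v i0 * c⁻¹ := by group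
          _ = zp zc b * c * v i0 * c⁻¹ := by rw [zp_comm' M]
          _ = zp zc b * (c * v i0 * c⁻¹) := by group
          _ = _ := by rw [M.conj, ← mul_assoc, ← zp_add zc M.z_sq, hc]
      rcases key _ h2 with h4 | h4 | ⟨d, h4⟩ <;> rw [h3] at h4
      · exact v_ne_one M _ _ h4
      · exact zv_ne_z M _ _ h4
      · exact hg3 (M.v_inj _ _ _ _ h4).2

end model

/-- **`J₂`** -/
theorem uniqC_j2 {G : Type*} [Group G] [Finite G] (h : Spor.IsoJ2 G) : UniqC G := by
  obtain ⟨t, u, Q, v, ρ, D⟩ := Cfsg.Agent.KFacts.J2.Facts.exists_dat_of h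
  have hodd : Odd (centralizer ({t} : Set G)).index := by rw [D.index]; decide
  obtain ⟨T, hT⟩ := Omega.Quasithin.EvenOf.exists_sylow hodd
  exact uniqC_of_model D.M rfl T hT

/-- **`J₃`** -/
theorem uniqC_j3 {G : Type*} [Group G] [Finite G] (h : Spor.IsoJ3 G) : UniqC G := by
  obtain ⟨-, z, Q, v, ρ, n, u, F⟩ := Cfsg.Agent.KFacts.J3.exists_facts h
  have hodd : Odd (centralizer ({z} : Set G)).index := by
    have h1 := (centralizer ({z} : Set G)).card_mul_index
    rw [F.card_K, F.card_C] at h1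
    have h2 : (centralizer ({z} : Set G)).index = 26163 := by omega
    rw [h2]; decide
  obtain ⟨T, hT⟩ := Omega.Quasithin.EvenOf.exists_sylow hodd
  exact uniqC_of_model F.model rfl T hT

end Cfsg.Agent.H2
end

-- part: H2/UniqCUThree
section
set_option linter.all false
open scoped Cfsg.Agent.FastGrp

-- part: H2/UniqCThree
section
/-!
# `C_G(Ω₁(Z(T)))` lies in a unique maximal 2-local subgroup: small 2-rank (helper2)
-/

set_option autoImplicit false

namespace Cfsg.Agent.H2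

open Subgroup Cfsg
open Cfsg.Agent.QTUniq.Local Cfsg.Agent.H7.Faithful

universe u v

/-- **criterion**: an element `y` of order 3 of `C_G(z)` commutes with no further involution of `C_G(z)`, and the elementary
abelian normal subgroups of `C_G(z)` are small -/
theorem UniqC.of_three {G : Type u} [Group G] [Finite G] {z y : G} (hz : z * z = 1) (hz1 : z ≠ 1) (T : Sylow 2 G) (hzT : z ∈ T)
    (hT : ∀ t ∈ (T : Subgroup G), t * z = z * t)
    (hcent : ∀ x ∈ (T : Subgroup G), x * x = 1 → (∀ t ∈ (T : Subgroup G), t * x = x * t) → x = 1 ∨ x = z)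
    (hyz : y * z = z * y) (hy3 : y ^ 3 = 1)
    (hfix : ∀ a : G, a * a = 1 → a * z = z * a → a * y = y * a → a = 1 ∨ a = z)
    (hrank : ∀ A : Subgroup G, (∀ a ∈ A, ∀ b ∈ A, a * b = b * a) → (∀ a ∈ A, a * a = 1) →
      Nat.card A ≤ 4 ∨ (Nat.card A ≤ 8 ∧ ¬ 7 ∣ Nat.card G)) : UniqC G := by
  have h3p : Fact (Nat.Prime 3) := ⟨Nat.prime_three⟩
  have h2p : Fact (Nat.Prime 2) := ⟨Nat.prime_two⟩
  refine UniqC.of_elab hz hz1 T hzT hT hcent fun A hAT hzA hAa hAs hCA => ?_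
  set N : Subgroup G := normalizer (A : Set G) with hN
  letI act : MulAction ↥N G := MulAction.compHom G ((MulAut.conj : G →* MulAut G).comp N.subtype)
  have hsm : ∀ (g : ↥N) (x : G), g • x = (g : G) * x * (g : G)⁻¹ := fun g x => rfl
  set O : Set G := MulAction.orbit ↥N z with hO
  have hzO : z ∈ O := MulAction.mem_orbit_self z
  have hOA : O ⊆ (A : Set G) \ {1} := by
    rintro _ ⟨g, rfl⟩
    show g • z ∈ _
    rw [hsm]
    refine ⟨(mem_normalizer_iff.1 g.2 z).1 hzA, fun h => hz1 (conj_eq_one_iff.1 h)⟩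
  -- the stabilizer
  have hstab : MulAction.stabilizer ↥N z = (centralizer ({z} : Set G)).subgroupOf N := by
    ext g
    rw [MulAction.mem_stabilizer_iff, mem_subgroupOf, mem_centralizer_singleton_iff, hsm, mul_inv_eq_iff_eq_mul]
  have hcard : Nat.card O * Nat.card ↥(centralizer ({z} : Set G)) = Nat.card ↥N := by
    have h1 := MulAction.index_stabilizer ↥N z
    rw [hstab] at h1
    have h2 := ((centralizer ({z} : Set G)).subgroupOf N).index_mul_card
    rw [Nat.card_congr (subgroupOfEquivOfLe hCA).toEquiv, h1] at h2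
    exact h2
  -- `|O|` is odd
  have hodd : ¬ 2 ∣ Nat.card O := by
    have hTC : (T : Subgroup G) ≤ centralizer ({z} : Set G) := fun t ht => mem_centralizer_singleton_iff.2 (hT t ht)
    have h1 : (centralizer ({z} : Set G)).relIndex N = Nat.card O := by
      have h2 := ((centralizer ({z} : Set G)).subgroupOf N).index_mul_card
      rw [Nat.card_congr (subgroupOfEquivOfLe hCA).toEquiv] at h2
      exact Nat.eq_of_mul_eq_mul_right Nat.card_pos (h2.trans hcard.symm)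
    rw [← h1]
    intro h2
    have h3 : (centralizer ({z} : Set G)).relIndex N ∣ (T : Subgroup G).index :=
      (Dvd.intro_left _ (Subgroup.relIndex_mul_relIndex (T : Subgroup G) _ N hTC hCA)).trans
        (Subgroup.relIndex_dvd_index_of_le (hTC.trans hCA))
    exact T.not_dvd_index (h2.trans h3)
  -- `|O| ≡ 1 mod 3`
  have hyN : y ∈ N := hCA (mem_centralizer_singleton_iff.2 hyz)
  set P : Subgroup ↥N := zpowers ⟨y, hyN⟩ with hP
  have hP3 : IsPGroup 3 ↥P := by
    rintro ⟨_, ⟨m, rfl⟩⟩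
    refine ⟨1, Subtype.ext (Subtype.ext ?_)⟩
    show (y ^ m) ^ 3 ^ 1 = 1
    rw [pow_one, ← zpow_natCast, ← zpow_mul, mul_comm, zpow_mul]
    norm_cast
    rw [hy3, one_zpow]
  have hmod := hP3.card_modEq_card_fixedPoints (α := O)
  have hfp : MulAction.fixedPoints ↥P O = {⟨z, hzO⟩} := by
    ext ⟨a, ha⟩
    rw [MulAction.mem_fixedPoints, Set.mem_singleton_iff]
    constructor
    · intro h
      have h1 := congrArg Subtype.val (h ⟨⟨y, hyN⟩, mem_zpowers _⟩)
      have h2 : y * a * y⁻¹ = a := h1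
      rw [mul_inv_eq_iff_eq_mul] at h2
      obtain ⟨h3, h4⟩ := hOA ha
      rcases hfix a (hAs a h3) (hAa a h3 z hzA) h2.symm with h5 | h5
      · exact absurd h5 h4
      · exact Subtype.ext h5
    · intro h
      have h1 : a = z := congrArg Subtype.val h
      subst h1
      rintro ⟨_, ⟨m, rfl⟩⟩
      apply Subtype.ext
      have h2 : Commute (y ^ m) a := (show Commute y a from hyz).zpow_left m
      show y ^ m * a * (y ^ m)⁻¹ = a
      rw [h2.eq, mul_inv_cancel_right]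
  rw [hfp] at hmod
  have hone : Nat.card ↥({⟨z, hzO⟩} : Set ↥O) = 1 := by
    rw [Nat.card_coe_set_eq, Set.ncard_singleton]
  -- `|O| = 1`
  have hle : Nat.card O + 1 ≤ Nat.card A := by
    have h1 : Nat.card O ≤ Nat.card ↥((A : Set G) \ {1}) := Nat.card_mono (Set.toFinite _) hOA
    rw [Nat.card_coe_set_eq ((A : Set G) \ {1}), Set.ncard_sdiff_singleton_of_mem A.one_mem] at h1
    have h2 : (A : Set G).ncard = Nat.card A := rfl
    have h3 : 0 < Nat.card A := Nat.card_pos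
    omega
  have hO1 : Nat.card O = 1 := by
    have h7 : Nat.card O ∣ Nat.card G := (Dvd.intro _ hcard).trans (card_subgroup_dvd_card N)
    have h8 : Nat.card O % 3 = 1 := by
      rw [hone] at hmod
      exact hmod
    rcases hrank A hAa hAs with h | ⟨h, h'⟩
    · omega
    · by_contra hne
      have h9 : Nat.card O = 7 := by omega
      rw [h9] at h7
      exact h' h7
  intro g hg
  rw [mem_centralizer_singleton_iff]
  have hsub := (Nat.card_eq_one_iff_unique.1 hO1).1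
  have h1 : (⟨g, hg⟩ : ↥N) • z ∈ O := MulAction.mem_orbit _ _
  have h2 : (⟨_, h1⟩ : O) = ⟨z, hzO⟩ := Subsingleton.elim _ _
  have h3 : g * z * g⁻¹ = z := congrArg Subtype.val h2
  rwa [mul_inv_eq_iff_eq_mul] at h3

end Cfsg.Agent.H2
end

-- part: H2/UniqCUThree
section
/-!
# `C_G(Ω₁(Z(T)))` lies in a unique maximal 2-local subgroup: `U₃(3)` (helper2)
-/

set_option autoImplicit false

namespace Cfsg.Agent.H2.UniqCUThree

open Subgroup Cfsg Matrix Cfsg.Agent.Classification.RTwo.UThreeThree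

universe u

/-! ### wreathed subgroups of order 32 -/

section wr

variable {G : Type*} [Group G] {a b s : G}

theorem wr_s (hs : s * s = 1) (hsa : s * a = b * s) (k i j : ℕ) (hab : a * b = b * a) :
    ∃ i' j' : ℕ, s ^ k * (a ^ i * b ^ j) = a ^ i' * b ^ j' * s ^ k := by
  have hsb : s * b = a * s := by
    have : s * b = s * (b * s) * s := by rw [mul_assoc, mul_assoc, hs, mul_one]
    rw [this, ← hsa, ← mul_assoc, hs, one_mul]
  have h1 : ∀ n : ℕ, s * a ^ n = b ^ n * s := by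
    intro n
    induction n with
    | zero => simp
    | succ n ih => rw [pow_succ, ← mul_assoc, ih, mul_assoc, hsa, ← mul_assoc, ← pow_succ]
  have h2 : ∀ n : ℕ, s * b ^ n = a ^ n * s := by
    intro n
    induction n with
    | zero => simp
    | succ n ih => rw [pow_succ, ← mul_assoc, ih, mul_assoc, hsb, ← mul_assoc, ← pow_succ]
  have h3 : ∀ m n : ℕ, a ^ m * b ^ n = b ^ n * a ^ m := fun m n => ((show Commute a b from hab).pow_pow m n).eq
  induction k generalizing i j with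
  | zero => exact ⟨i, j, by simp⟩
  | succ k ih =>
    obtain ⟨i', j', h⟩ := ih j i
    refine ⟨i', j', ?_⟩
    calc s ^ (k + 1) * (a ^ i * b ^ j) = s ^ k * (s * a ^ i * b ^ j) := by rw [pow_succ]; group
      _ = s ^ k * (b ^ i * (s * b ^ j)) := by rw [h1, mul_assoc]
      _ = s ^ k * (a ^ j * b ^ i) * s := by rw [h2, ← mul_assoc (b ^ i), ← h3, ← mul_assoc]
      _ = a ^ i' * b ^ j' * s ^ (k + 1) := by rw [h, mul_assoc, ← pow_succ]

theorem wr_mem (ha : a ^ 4 = 1) (hb : b ^ 4 = 1) (hab : a * b = b * a) (hs : s * s = 1) (hsa : s * a = b * s) {x : G}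
    (hx : x ∈ closure ({a, b, s} : Set G)) : ∃ i j k : ℕ, x = a ^ i * b ^ j * s ^ k := by
  have h3 : ∀ m n : ℕ, a ^ m * b ^ n = b ^ n * a ^ m := fun m n => ((show Commute a b from hab).pow_pow m n).eq
  induction hx using closure_induction with
  | mem x hx =>
    rcases hx with rfl | rfl | rfl
    · exact ⟨1, 0, 0, by simp⟩
    · exact ⟨0, 1, 0, by simp⟩
    · exact ⟨0, 0, 1, by simp⟩
  | one => exact ⟨0, 0, 0, by simp⟩
  | mul x y _ _ hx hy =>
    obtain ⟨i, j, k, rfl⟩ := hx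
    obtain ⟨i', j', k', rfl⟩ := hy
    obtain ⟨i'', j'', h⟩ := wr_s hs hsa k i' j' hab
    refine ⟨i + i'', j + j'', k + k', ?_⟩
    calc a ^ i * b ^ j * s ^ k * (a ^ i' * b ^ j' * s ^ k') = a ^ i * b ^ j * (s ^ k * (a ^ i' * b ^ j')) * s ^ k' := by
          group
      _ = a ^ i * (b ^ j * a ^ i'') * b ^ j'' * s ^ k * s ^ k' := by rw [h]; group
      _ = _ := by rw [← h3, pow_add, pow_add, pow_add]; group
  | inv x _ hx =>
    obtain ⟨i, j, k, rfl⟩ := hx
    obtain ⟨i'', j'', h⟩ := wr_s hs hsa k (3 * i) (3 * j) hab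
    refine ⟨i'', j'', k, ?_⟩
    rw [← h]
    have hsk : s ^ k * s ^ k = 1 := by rw [← pow_add, ← two_mul, pow_mul, pow_two, hs, one_pow]
    have ha4 : a ^ i * a ^ (3 * i) = 1 := by rw [← pow_add, show i + 3 * i = 4 * i by ring, pow_mul, ha, one_pow]
    have hb4 : b ^ j * b ^ (3 * j) = 1 := by rw [← pow_add, show j + 3 * j = 4 * j by ring, pow_mul, hb, one_pow]
    rw [inv_eq_iff_mul_eq_one]
    calc a ^ i * b ^ j * s ^ k * (s ^ k * (a ^ (3 * i) * b ^ (3 * j)))
        = a ^ i * b ^ j * (s ^ k * s ^ k) * (a ^ (3 * i) * b ^ (3 * j)) := by group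
      _ = a ^ i * (b ^ j * a ^ (3 * i)) * b ^ (3 * j) := by rw [hsk]; group
      _ = (a ^ i * a ^ (3 * i)) * (b ^ j * b ^ (3 * j)) := by rw [← h3]; group
      _ = 1 := by rw [ha4, hb4, one_mul]

theorem wr_card (ha : a ^ 4 = 1) (hb : b ^ 4 = 1) (hab : a * b = b * a) (hs : s * s = 1) (hsa : s * a = b * s)
    (hker : ∀ i j : Fin 4, ∀ k : Fin 2, a ^ (i : ℕ) * b ^ (j : ℕ) * s ^ (k : ℕ) = 1 → i = 0 ∧ j = 0 ∧ k = 0) :
    Nat.card ↥(closure ({a, b, s} : Set G)) = 32 := by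
  have hma : ∀ n : ℕ, a ^ n = a ^ (n % 4) := fun n => by
    conv_lhs => rw [← Nat.div_add_mod n 4]
    rw [pow_add, pow_mul, ha, one_pow, one_mul]
  have hmb : ∀ n : ℕ, b ^ n = b ^ (n % 4) := fun n => by
    conv_lhs => rw [← Nat.div_add_mod n 4]
    rw [pow_add, pow_mul, hb, one_pow, one_mul]
  have hms : ∀ n : ℕ, s ^ n = s ^ (n % 2) := fun n => by
    conv_lhs => rw [← Nat.div_add_mod n 2]
    rw [pow_add, pow_mul, pow_two, hs, one_pow, one_mul]
  have hA : a ∈ closure ({a, b, s} : Set G) := subset_closure (by simp)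
  have hB : b ∈ closure ({a, b, s} : Set G) := subset_closure (by simp)
  have hS : s ∈ closure ({a, b, s} : Set G) := subset_closure (by simp)
  let f : Fin 4 × Fin 4 × Fin 2 → ↥(closure ({a, b, s} : Set G)) := fun p =>
    ⟨a ^ (p.1 : ℕ) * b ^ (p.2.1 : ℕ) * s ^ (p.2.2 : ℕ), mul_mem (mul_mem (pow_mem hA _) (pow_mem hB _)) (pow_mem hS _)⟩
  have hsurj : Function.Surjective f := by
    rintro ⟨x, hx⟩
    obtain ⟨i, j, k, rfl⟩ := wr_mem ha hb hab hs hsa hx
    refine ⟨(⟨i % 4, Nat.mod_lt _ (by norm_num)⟩, ⟨j % 4, Nat.mod_lt _ (by norm_num)⟩,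
      ⟨k % 2, Nat.mod_lt _ (by norm_num)⟩), Subtype.ext ?_⟩
    show a ^ (i % 4) * b ^ (j % 4) * s ^ (k % 2) = _
    rw [← hma, ← hmb, ← hms]
  have hinj : Function.Injective f := by
    rintro ⟨i, j, k⟩ ⟨i', j', k'⟩ h
    have h1 : a ^ (i : ℕ) * b ^ (j : ℕ) * s ^ (k : ℕ) = a ^ (i' : ℕ) * b ^ (j' : ℕ) * s ^ (k' : ℕ) := congrArg Subtype.val h
    have h3 : ∀ m n : ℕ, a ^ m * b ^ n = b ^ n * a ^ m := fun m n => ((show Commute a b from hab).pow_pow m n).eq
    have hsk : s ^ (k' : ℕ) * s ^ (k' : ℕ) = 1 := by rw [← pow_add, ← two_mul, pow_mul, pow_two, hs, one_pow]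
    have ha4 : a ^ (3 * (i' : ℕ)) * a ^ (i' : ℕ) = 1 := by
      rw [← pow_add, show 3 * (i' : ℕ) + i' = 4 * i' by ring, pow_mul, ha, one_pow]
    have hb4 : b ^ (3 * (j' : ℕ)) * b ^ (j' : ℕ) = 1 := by
      rw [← pow_add, show 3 * (j' : ℕ) + j' = 4 * j' by ring, pow_mul, hb, one_pow]
    have h4 : a ^ (3 * (i' : ℕ) + i) * b ^ (3 * (j' : ℕ) + j) * s ^ ((k : ℕ) + k') = 1 := by
      calc a ^ (3 * (i' : ℕ) + i) * b ^ (3 * (j' : ℕ) + j) * s ^ ((k : ℕ) + k')
          = a ^ (3 * (i' : ℕ)) * (a ^ (i : ℕ) * b ^ (3 * (j' : ℕ))) * b ^ (j : ℕ) * s ^ (k : ℕ) * s ^ (k' : ℕ) := by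
            rw [pow_add, pow_add, pow_add]; group
        _ = a ^ (3 * (i' : ℕ)) * b ^ (3 * (j' : ℕ)) * (a ^ (i : ℕ) * b ^ (j : ℕ) * s ^ (k : ℕ)) * s ^ (k' : ℕ) := by
            rw [h3 i]; group
        _ = a ^ (3 * (i' : ℕ)) * (b ^ (3 * (j' : ℕ)) * a ^ (i' : ℕ)) * b ^ (j' : ℕ) * (s ^ (k' : ℕ) * s ^ (k' : ℕ)) := by
            rw [h1]; group
        _ = (a ^ (3 * (i' : ℕ)) * a ^ (i' : ℕ)) * (b ^ (3 * (j' : ℕ)) * b ^ (j' : ℕ)) := by rw [← h3, hsk]; group
        _ = 1 := by rw [ha4, hb4, one_mul]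
    rw [hma, hmb, hms] at h4
    obtain ⟨h5, h6, h7⟩ := hker ⟨(3 * (i' : ℕ) + i) % 4, Nat.mod_lt _ (by norm_num)⟩
      ⟨(3 * (j' : ℕ) + j) % 4, Nat.mod_lt _ (by norm_num)⟩ ⟨((k : ℕ) + k') % 2, Nat.mod_lt _ (by norm_num)⟩ h4
    have h5' : (3 * (i' : ℕ) + i) % 4 = 0 := congrArg Fin.val h5
    have h6' : (3 * (j' : ℕ) + j) % 4 = 0 := congrArg Fin.val h6
    have h7' : ((k : ℕ) + k') % 2 = 0 := congrArg Fin.val h7
    refine Prod.ext (Fin.ext ?_) (Prod.ext (Fin.ext ?_) (Fin.ext ?_))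
    · show (i : ℕ) = i'
      have := i.2; have := i'.2; omega
    · show (j : ℕ) = j'
      have := j.2; have := j'.2; omega
    · show (k : ℕ) = k'
      have := k.2; have := k'.2; omega
  rw [← Nat.card_congr (Equiv.ofBijective f ⟨hinj, hsurj⟩)]
  simp

end wr

/-! ### `SU₃(3)` -/

/-- `diag(i, 1, -i)` -/
def mD1 : Matrix (Fin 3) (Fin 3) K9 := !![⟨0, 1⟩, ⟨0, 0⟩, ⟨0, 0⟩; ⟨0, 0⟩, ⟨1, 0⟩, ⟨0, 0⟩; ⟨0, 0⟩, ⟨0, 0⟩, ⟨0, 2⟩]
/-- `diag(1, i, -i)` -/
def mD2 : Matrix (Fin 3) (Fin 3) K9 := !![⟨1, 0⟩, ⟨0, 0⟩, ⟨0, 0⟩; ⟨0, 0⟩, ⟨0, 1⟩, ⟨0, 0⟩; ⟨0, 0⟩, ⟨0, 0⟩, ⟨0, 2⟩]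
/-- the swap -/
def mS : Matrix (Fin 3) (Fin 3) K9 := !![⟨0, 0⟩, ⟨1, 0⟩, ⟨0, 0⟩; ⟨1, 0⟩, ⟨0, 0⟩, ⟨0, 0⟩; ⟨0, 0⟩, ⟨0, 0⟩, ⟨2, 0⟩]
/-- `diag(-1, -1, 1)` -/
def mZ : Matrix (Fin 3) (Fin 3) K9 := !![⟨2, 0⟩, ⟨0, 0⟩, ⟨0, 0⟩; ⟨0, 0⟩, ⟨2, 0⟩, ⟨0, 0⟩; ⟨0, 0⟩, ⟨0, 0⟩, ⟨1, 0⟩]
/-- a transvection -/
def mY : Matrix (Fin 3) (Fin 3) K9 := !![⟨1, 1⟩, ⟨1, 1⟩, ⟨0, 0⟩; ⟨2, 1⟩, ⟨1, 2⟩, ⟨0, 0⟩; ⟨0, 0⟩, ⟨0, 0⟩, ⟨1, 0⟩]

theorem gD1 : IsGood mD1 := by decide +kernel
theorem gD2 : IsGood mD2 := by decide +kernel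
theorem gS : IsGood mS := by decide +kernel
theorem gZ : IsGood mZ := by decide +kernel
theorem gY : IsGood mY := by decide +kernel

theorem rD1 : mD1 * mD1 * mD1 * mD1 = 1 := by decide +kernel
theorem rD2 : mD2 * mD2 * mD2 * mD2 = 1 := by decide +kernel
theorem rD : mD1 * mD2 = mD2 * mD1 := by decide +kernel
theorem rS : mS * mS = 1 := by decide +kernel
theorem rSD : mS * mD1 = mD2 * mS := by decide +kernel
theorem rZ : mZ * mZ = 1 := by decide +kernel
theorem rZD : mD1 * mD1 * (mD2 * mD2) = mZ := by decide +kernel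
theorem rY : mY * mY * mY = 1 := by decide +kernel
theorem rYZ : mY * mZ = mZ * mY := by decide +kernel
theorem rDZ1 : mD1 * mZ = mZ * mD1 := by decide +kernel
theorem rDZ2 : mD2 * mZ = mZ * mD2 := by decide +kernel
theorem rSZ : mS * mZ = mZ * mS := by decide +kernel

theorem rker : ∀ i j : Fin 4, ∀ k : Fin 2, mD1 ^ (i : ℕ) * mD2 ^ (j : ℕ) * mS ^ (k : ℕ) = 1 → i = 0 ∧ j = 0 ∧ k = 0 := by
  decide +kernel

/-- the matrix -/
def mt' (x : Cfsg.SU 3 K9 3) : Matrix (Fin 3) (Fin 3) K9 := ((x : Matrix.SpecialLinearGroup (Fin 3) K9) : Matrix (Fin 3) (Fin 3) K9)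

theorem mt_mul' (x y : Cfsg.SU 3 K9 3) : mt' (x * y) = mt' x * mt' y := rfl

theorem three_eq : (3 : K9) = 0 := by decide +kernel

/-- `i` -/
def ii : K9 := ⟨0, 1⟩

theorem ii_sq : ii * ii = -1 := by decide +kernel
theorem c00 : (⟨0, 0⟩ : K9) = 0 := rfl
theorem c10 : (⟨1, 0⟩ : K9) = 1 := rfl
theorem c20 : (⟨2, 0⟩ : K9) = -1 := by decide +kernel
theorem c01 : (⟨0, 1⟩ : K9) = ii := rfl
theorem c11 : (⟨1, 1⟩ : K9) = 1 + ii := by decide +kernel
theorem c12 : (⟨1, 2⟩ : K9) = 1 - ii := by decide +kernel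
theorem c21 : (⟨2, 1⟩ : K9) = -1 + ii := by decide +kernel

/-- the elements commuting with `z` -/
theorem entries {m : Matrix (Fin 3) (Fin 3) K9} (h : m * mZ = mZ * m) : m 0 2 = 0 ∧ m 1 2 = 0 ∧ m 2 0 = 0 ∧ m 2 1 = 0 := by
  have h02 := congrFun (congrFun h 0) 2
  have h12 := congrFun (congrFun h 1) 2
  have h20 := congrFun (congrFun h 2) 0
  have h21 := congrFun (congrFun h 2) 1
  simp only [Matrix.mul_apply, Fin.sum_univ_three, mZ, Matrix.of_apply, Matrix.cons_val, c00, c10, c20, mul_zero, zero_mul,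
    add_zero, zero_add, mul_one, one_mul, mul_neg, neg_mul] at h02 h12 h20 h21
  have h3 := three_eq
  refine ⟨?_, ?_, ?_, ?_⟩
  · linear_combination (m 0 2) * h3 - h02
  · linear_combination (m 1 2) * h3 - h12
  · linear_combination (m 2 0) * h3 + h20
  · linear_combination (m 2 1) * h3 + h21

/-- scalar on the first two coordinates -/
theorem scalar_cases {m : Matrix (Fin 3) (Fin 3) K9} (hZ : m * mZ = mZ * m) (h01 : m 0 1 = 0) (h10 : m 1 0 = 0)
    (h : m 0 0 = m 1 1) (h2 : m * m = 1)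
    (hd : m 0 0 * m 1 1 * m 2 2 - m 0 0 * m 1 2 * m 2 1 - m 0 1 * m 1 0 * m 2 2 + m 0 1 * m 1 2 * m 2 0
    + m 0 2 * m 1 0 * m 2 1 - m 0 2 * m 1 1 * m 2 0 = 1) : m = 1 ∨ m = mZ := by
  obtain ⟨e02, e12, e20, e21⟩ := entries hZ
  have s00 := congrFun (congrFun h2 0) 0
  rw [Matrix.mul_apply, Fin.sum_univ_three, Matrix.one_apply_eq, h01, e02, zero_mul, zero_mul, add_zero, add_zero] at s00
  rw [h01, e02, ← h, e12] at hd
  have h22 : m 2 2 = 1 := by linear_combination hd - (m 2 2) * s00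
  have ha : m 0 0 = 1 ∨ m 0 0 = -1 := mul_self_eq_one_iff.1 s00
  rcases ha with ha | ha
  · left
    rw [Matrix.eta_fin_three m, h01, e02, h10, e12, e20, e21, h22, ← h, ha]
    exact Matrix.one_fin_three.symm
  · right
    rw [Matrix.eta_fin_three m, h01, e02, h10, e12, e20, e21, h22, ← h, ha, mZ, c00, c10, c20]

theorem fixY {m : Matrix (Fin 3) (Fin 3) K9} (h : m * mZ = mZ * m) (hY : m * mY = mY * m) (h2 : m * m = 1) :
    m 0 1 = 0 ∧ m 1 0 = 0 ∧ m 0 0 = m 1 1 := by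
  obtain ⟨e02, e12, e20, e21⟩ := entries h
  have y00 := congrFun (congrFun hY 0) 0
  have y01 := congrFun (congrFun hY 0) 1
  have s00 := congrFun (congrFun h2 0) 0
  have s01 := congrFun (congrFun h2 0) 1
  simp only [Matrix.mul_apply, Fin.sum_univ_three, mY, Matrix.of_apply, Matrix.cons_val, c00, c10, c11, c12, c21, mul_zero,
    add_zero, e02, e20, e21, Matrix.one_apply_eq] at y00 y01 s00 s01
  rw [Matrix.one_apply_ne (by decide)] at s01
  have hu : (1 + ii : K9) ≠ 0 := by decide +kernel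
  have hc : m 1 0 = ii * m 0 1 := mul_left_cancel₀ hu (by linear_combination -y00 - (m 0 1) * ii_sq)
  by_cases hb : m 0 1 = 0
  · refine ⟨hb, by rw [hc, hb, mul_zero], mul_left_cancel₀ hu ?_⟩
    rw [hb] at y01
    linear_combination y01
  · exfalso
    have h3 := three_eq
    have hd : m 1 1 = -m 0 0 := by
      have h5 : m 0 1 * (m 0 0 + m 1 1) = 0 := by linear_combination s01
      rcases mul_eq_zero.1 h5 with h6 | h6
      · exact absurd h6 hb
      · linear_combination h6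
    rw [hd] at y01
    have e1 : (1 + ii) * (m 0 0 + m 0 0) = ii * m 0 1 + ii * m 0 1 := by linear_combination y01
    have e2 : m 0 1 * m 0 1 = ii * (m 0 0 * m 0 0) := by
      linear_combination ((1 + ii) * (m 0 0 + m 0 0) + (ii * m 0 1 + ii * m 0 1)) * e1
        - 4 * (m 0 0 * m 0 0 - m 0 1 * m 0 1) * ii_sq - (3 * ii * (m 0 0 * m 0 0) + m 0 1 * m 0 1) * h3
    have h1 : (1 : K9) = 0 := by
      linear_combination -s00 + (m 0 1) * hc + ii * e2 + (m 0 0 * m 0 0) * ii_sq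
    exact one_ne_zero h1

theorem diag_cases {m : Matrix (Fin 3) (Fin 3) K9} (hD : m * mD1 = mD1 * m) (hS : m * mS = mS * m) :
    m 0 1 = 0 ∧ m 1 0 = 0 ∧ m 0 0 = m 1 1 := by
  have d01 := congrFun (congrFun hD 0) 1
  have d10 := congrFun (congrFun hD 1) 0
  have s01 := congrFun (congrFun hS 0) 1
  simp only [Matrix.mul_apply, Fin.sum_univ_three, mD1, mS, Matrix.of_apply, Matrix.cons_val, c00, c10, c01, mul_zero,
    add_zero, zero_mul, zero_add, mul_one, one_mul] at d01 d10 s01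
  have hu : (1 - ii : K9) ≠ 0 := by decide +kernel
  refine ⟨?_, ?_, ?_⟩
  · refine (mul_eq_zero.1 (?_ : (1 - ii) * m 0 1 = 0)).resolve_left hu
    linear_combination d01
  · refine (mul_eq_zero.1 (?_ : (1 - ii) * m 1 0 = 0)).resolve_left hu
    linear_combination -d10
  · exact s01

/-! ### the group -/

/-- determinant and unitarity -/
theorem det_eq (x : Cfsg.SU 3 K9 3) : (mt' x).det = 1 := x.1.2

def D1 : Cfsg.SU 3 K9 3 := gD1.su
def D2 : Cfsg.SU 3 K9 3 := gD2.su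
def Sw : Cfsg.SU 3 K9 3 := gS.su
def Z : Cfsg.SU 3 K9 3 := gZ.su
def Y : Cfsg.SU 3 K9 3 := gY.su

theorem D1_pow : D1 ^ 4 = 1 := by
  apply su_ext
  rw [pow_succ, pow_succ, pow_succ, pow_one]
  exact rD1

theorem D2_pow : D2 ^ 4 = 1 := by
  apply su_ext
  rw [pow_succ, pow_succ, pow_succ, pow_one]
  exact rD2

theorem D_comm : D1 * D2 = D2 * D1 := su_ext rD
theorem Sw_sq : Sw * Sw = 1 := su_ext rS
theorem Sw_D : Sw * D1 = D2 * Sw := su_ext rSD
theorem Z_sq : Z * Z = 1 := su_ext rZ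
theorem Z_eq : D1 * D1 * (D2 * D2) = Z := su_ext rZD
theorem Y_Z : Y * Z = Z * Y := su_ext rYZ
theorem D1_Z : D1 * Z = Z * D1 := su_ext rDZ1
theorem D2_Z : D2 * Z = Z * D2 := su_ext rDZ2
theorem Sw_Z : Sw * Z = Z * Sw := su_ext rSZ

theorem Y_cube : Y ^ 3 = 1 := by
  apply su_ext
  rw [pow_succ, pow_succ, pow_one]
  exact rY

theorem Z_ne : Z ≠ 1 := by
  intro h
  have h1 : mZ = 1 := congrArg mt' h
  have h2 : mZ 0 0 = 1 := by rw [h1]; rfl
  revert h2
  decide +kernel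

theorem mt_pow (x : Cfsg.SU 3 K9 3) (n : ℕ) : mt' (x ^ n) = mt' x ^ n := by
  induction n with
  | zero => rfl
  | succ n ih => rw [pow_succ, mt_mul', ih, pow_succ]

theorem ker (i j : Fin 4) (k : Fin 2) (h : D1 ^ (i : ℕ) * D2 ^ (j : ℕ) * Sw ^ (k : ℕ) = 1) : i = 0 ∧ j = 0 ∧ k = 0 := by
  apply rker i j k
  have h1 := congrArg mt' h
  rw [mt_mul', mt_mul', mt_pow, mt_pow, mt_pow] at h1
  exact h1

theorem cases_of {a : Cfsg.SU 3 K9 3} (haa : a * a = 1) (haz : a * Z = Z * a)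
    (h : mt' a 0 1 = 0 ∧ mt' a 1 0 = 0 ∧ mt' a 0 0 = mt' a 1 1) : a = 1 ∨ a = Z := by
  have hd := det_eq a
  rw [Matrix.det_fin_three] at hd
  rcases scalar_cases (m := mt' a) (congrArg mt' haz) h.1 h.2.1 h.2.2 (congrArg mt' haa) hd with h1 | h1
  · exact Or.inl (su_ext h1)
  · exact Or.inr (su_ext h1)

theorem hfix (a : Cfsg.SU 3 K9 3) (haa : a * a = 1) (haz : a * Z = Z * a) (hay : a * Y = Y * a) : a = 1 ∨ a = Z :=
  cases_of haa haz (fixY (congrArg mt' haz) (congrArg mt' hay) (congrArg mt' haa))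

theorem card_su : Nat.card (Cfsg.SU 3 K9 3) = 6048 := by
  rw [← Nat.card_congr (psuEquiv (F := K9) card_k9).toEquiv]
  exact Cfsg.Agent.SmallSimple.PSLFacts.card_psu_three_three card_k9

theorem uniqC_model : UniqC (Cfsg.SU 3 K9 3) := by
  have h2p : Fact (Nat.Prime 2) := ⟨Nat.prime_two⟩
  have hf : Finite (Cfsg.SU 3 K9 3) := Nat.finite_of_card_ne_zero (by rw [card_su]; norm_num)
  set P : Subgroup (Cfsg.SU 3 K9 3) := closure {D1, D2, Sw} with hP
  have hcard : Nat.card P = 32 := wr_card D1_pow D2_pow D_comm Sw_sq Sw_D ker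
  have hPp : IsPGroup 2 P := IsPGroup.of_card (n := 5) (by rw [hcard]; norm_num)
  have hPi : ¬ 2 ∣ P.index := by
    have h1 := P.card_mul_index
    rw [hcard, card_su] at h1
    omega
  have hA : D1 ∈ P := subset_closure (by simp)
  have hB : D2 ∈ P := subset_closure (by simp)
  have hS : Sw ∈ P := subset_closure (by simp)
  have hT : ∀ t ∈ P, t * Z = Z * t := by
    have h1 : P ≤ centralizer ({Z} : Set (Cfsg.SU 3 K9 3)) := by
      rw [hP, closure_le]
      rintro x (rfl | rfl | rfl)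
      · exact mem_centralizer_singleton_iff.2 D1_Z
      · exact mem_centralizer_singleton_iff.2 D2_Z
      · exact mem_centralizer_singleton_iff.2 Sw_Z
    exact fun t ht => mem_centralizer_singleton_iff.1 (h1 ht)
  refine UniqC.of_three (z := Z) (y := Y) Z_sq Z_ne (hPp.toSylow hPi) ?_ hT ?_ Y_Z Y_cube hfix ?_
  · show Z ∈ P
    rw [← Z_eq]
    exact mul_mem (mul_mem hA hA) (mul_mem hB hB)
  · intro x hx hxx hxT
    refine cases_of hxx (hT x hx) (diag_cases ?_ ?_)
    · exact congrArg mt' (hxT D1 hA).symm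
    · exact congrArg mt' (hxT Sw hS).symm
  · intro A hAa hAs
    left
    exact Cfsg.Agent.NotResT.TwoRank.prank_subgroup (Cfsg.Agent.NotResT.TwoRank.prank_sl_three (F := K9)
      (by rw [card_k9]; decide)) _ A ⟨⟨fun a b => Subtype.ext (hAa a a.2 b b.2)⟩⟩ (fun a ha => by
        rw [pow_two]; exact hAs a ha)

/-- **`U₃(3)`** -/
theorem uniqC {G : Type u} [Group G] [Finite G] {F : Type*} [Field F] [Fintype F] (hF : Fintype.card F = 9)
    (e : G ≃* PSU 3 F 3) : UniqC G := by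
  have hcard : Fintype.card F = Fintype.card K9 := by rw [hF, card_k9]
  exact uniqC_model.congr (e.trans ((psuEquiv hF).trans (LieClassical.FieldTransfer.suCongr 3 3
    (FiniteField.ringEquivOfCardEq hcard))))

end Cfsg.Agent.H2.UniqCUThree
end

private theorem dce_8b16b3cc8818 : _root_.True := by
  try have : _root_.True := by simp only [_root_.Cfsg.Agent.H2.UniqCUThree.mS.eq_1]
  try have : _root_.True := by simp only [_root_.Cfsg.Agent.H2.UniqCUThree.mY.eq_1]
  try have : _root_.True := by simp only [_root_.Cfsg.Agent.H2.UniqCUThree.mZ.eq_1]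
  try have : _root_.True := by simp only [_root_.Cfsg.Agent.H2.UniqCUThree.mD1.eq_1]
  exact _root_.True.intro
end
end
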