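import Cfsg.Agent.H4.Small_m3
import Cfsg.Agent.QTNorm.SporJ4
import Cfsg.Agent.S0365
import Cfsg.Agent.Schreier.ChevIso_m3
import Cfsg.Agent.H1.RankTwo_m3
import Cfsg.Agent.H1.WittPerf_m3
import Cfsg.Agent.H3.Asm35_m3
import Cfsg.Agent.S0256
import Cfsg.Agent.H6.NoL
import Cfsg.Agent.S0252
import Cfsg.Agent.S0811
import Cfsg.Agent.S0812
import Cfsg.Agent.FooteOdd.SporMEleven
import Cfsg.Agent.QTUnique.HS
import Cfsg.Agent.QTUnique.PcCard_m3
import Cfsg.Agent.HoltZ.CentHe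
import Cfsg.Agent.H2.WM
import Cfsg.Agent.QTUnique.Ru
import Cfsg.Agent.QTUnique.LFourThree
import Cfsg.Agent.H2.GolayEv
import Cfsg.Agent.SporadicA.M24Trans
import Cfsg.Agent.Mrg.Omega.ML.UFour.Perm
import Cfsg.Agent.H2.TwFFin
import Cfsg.Agent.H2.GTwoThree
import Cfsg.Agent.H2.UFourTwo
import Cfsg.Agent.H2.SpSix
import Cfsg.Agent.LieClassical.Order72
import Cfsg.Agent.S0251
import Cfsg.Agent.S0253
import Cfsg.Agent.S0255
import Cfsg.Agent.SporadicA.GolayFast
import Cfsg.Agent.Lib.FinFast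
import Cfsg.Agent.FastGrp
import Cfsg.Agent.Prune
set_option linter.all false

section
prune_inst 0x7f00000000000000000000000000000000000000000000000000000000000000000000000000000000000000000000000000000000000000000000000000000000000000000000000000000000000000003fffffffffffffffffffffffffffbeffbdffffffff

-- part: H2/JFour_mg
section
set_option linter.all false
open scoped Cfsg.Agent.FastGrp

-- part: H2/Quot
section
/-!
# `LfAt` from a perfect quotient (helper2)
-/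

set_option autoImplicit false

namespace Cfsg.Agent.H2

open Subgroup Cfsg

variable {X : Type*} [Group X]

/-- a perfect subgroup mapping onto a perfect quotient -/
theorem exists_perfect_onto {H Q : Type*} [Group H] [Finite H] [Group Q] (hQ : Group.IsPerfect Q) (f : H →* Q)
    (hf : Function.Surjective f) : ∃ S : Subgroup H, ⁅S, S⁆ = S ∧ S.map f = ⊤ := by
  have hfin : Finite (Subgroup H) := inferInstance
  obtain ⟨S, hS, hmin⟩ := (Set.toFinite {S : Subgroup H | S.map f = ⊤}).exists_minimal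
    ⟨⊤, Subgroup.map_top_of_surjective f hf⟩
  have hS' : S.map f = ⊤ := hS
  refine ⟨S, le_antisymm (commutator_le_self S) ?_, hS⟩
  refine hmin ?_ (commutator_le_self S)
  show (⁅S, S⁆).map f = ⊤
  rw [Subgroup.map_commutator, hS']
  exact (Group.isPerfect_def).1 hQ

/-- **the criterion with a perfect quotient `H / V`** -/
theorem LfAt.of_quot [Finite X] (T : Sylow 2 X) {H V : Subgroup X} (hT : (T : Subgroup X) ≤ H)
    (hV : V ≤ (T : Subgroup X)) (hV1 : V ≠ ⊥) (hn : H ≤ normalizer (V : Set X)) {Q : Type*} [Group Q]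
    (hQ : Group.IsPerfect Q) (f : ↥H →* Q) (hf : Function.Surjective f) (hker : ∀ h : ↥H, f h = 1 → (h : X) ∈ V)
    {z : X} (hz : z ∈ (T : Subgroup X)) (hz2 : z * z = 1) (hzT : ∀ t ∈ T, t * z = z * t) {h : X} (hh : h ∈ H)
    (hne : h * z ≠ z * h) : LfAt (T : Subgroup X) := by
  obtain ⟨S, hS, hSf⟩ := exists_perfect_onto hQ f hf
  have hzo : z ∈ H7.Faithful.omZ (T : Subgroup X) :=
    H7.Faithful.mem_omZ.2 ⟨⟨hz, mem_centralizer_iff.2 fun t ht => hzT t ht⟩, by rw [pow_two, hz2]⟩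
  refine ⟨H, S.map H.subtype, hT, ?_, map_subtype_le S, ?_, ?_⟩
  · intro hb
    have h1 := QTUniq.Local.le_map_pCore (p := 2) (hV.trans hT) (T.2.to_le hV) hn
    rw [hb, Subgroup.map_bot] at h1
    exact hV1 (le_bot_iff.1 h1)
  · rw [← Subgroup.map_commutator, hS]
  · intro hc
    obtain ⟨s, hs, hse⟩ : f ⟨h, hh⟩ ∈ S.map f := by rw [hSf]; exact mem_top _
    have h1 : (s⁻¹ * ⟨h, hh⟩ : ↥H) = (s⁻¹ * ⟨h, hh⟩ : ↥H) := rfl
    have h2 : ((s⁻¹ * ⟨h, hh⟩ : ↥H) : X) ∈ V := hker _ (by rw [map_mul, map_inv, hse, inv_mul_cancel])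
    have h3 : (s : X) * z = z * s := by
      have := mem_centralizer_iff.1 (hc ⟨s, hs, rfl⟩) z hzo
      exact this.symm
    have h4 := hzT _ (hV h2)
    apply hne
    have e : h = (s : X) * ((s⁻¹ * ⟨h, hh⟩ : ↥H) : X) := by
      push_cast
      group
    rw [e, mul_assoc, h4, ← mul_assoc, h3, mul_assoc]

end Cfsg.Agent.H2
end

-- part: H2/JFour
section
/-!
# `LfRow` for `J₄` (helper2)

`E` of order `2 ^ 11`, `N(E) / E ≃ M24`.
-/

set_option autoImplicit false

namespace Cfsg.Agent.H2.JFour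

open Cfsg Subgroup Cfsg.Agent.J4Type Cfsg.Agent.J4Type.NormE Cfsg.Agent.QTNorm.JFour

variable {G : Type*} [Group G]

theorem perfect_M24 : Group.IsPerfect M24 := by
  have hs : IsSimpleGroup M24 := Cfsg.Agent.S0365.result
  rw [Group.isPerfect_def]
  rcases (inferInstance : (commutator M24).Normal).eq_bot_or_eq_top with h | h
  · exfalso
    rw [commutator_eq_bot_iff_center_eq_top, Subgroup.center_eq_top_iff] at h
    exact Cfsg.Agent.Schreier.MTwentyFour.not_isMulCommutative h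
  · exact h

theorem row_of_frame [Finite G] (C : Frame G) : LfRow G := by
  obtain ⟨S, hSD, h2, hcard, hE, hQ⟩ := exists_S C
  have h3 := self C hSD hE hQ hcard
  obtain ⟨T, hT⟩ := exists_sylow_eq h2 h3
  have hz1 : C.z ≠ 1 := z_ne_one C.toCent
  have hzE : C.z ∈ C.E hex0 := C.z_mem_E _ HexStab.isHex_hex0
  obtain ⟨h, hh, hne⟩ : ∃ h ∈ normalizer (C.E hex0 : Set G), h * C.z ≠ C.z * h := by
    by_contra hcon
    push Not at hcon
    have h4 : D C = normalizer (C.E hex0 : Set G) :=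
      le_antisymm inf_le_left (le_inf le_rfl fun x hx => mem_centralizer_singleton_iff.2 (hcon x hx))
    have h5 := card_D C
    rw [h4, card_N C] at h5
    norm_num at h5
  refine LfRow.of_one T (LfAt.of_quot T (H := normalizer (C.E hex0 : Set G)) (V := C.E hex0) ?_ ?_ ?_ le_rfl perfect_M24
    C.π C.π_surj (fun h hh => (C.π_ker h).1 hh) (z := C.z) ?_ (z_sq C.toCent) ?_ hh hne)
  · rw [hT]
    exact hSD.trans inf_le_left
  · rw [hT]; exact hE
  · intro hb
    rw [hb] at hzE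
    exact hz1 (by simpa using hzE)
  · rw [hT]; exact hE hzE
  · intro t ht
    have ht' : t ∈ S := hT ▸ ht
    exact mem_centralizer_singleton_iff.1 (hSD ht').2

/-- **`LfRow` for `J₄`** -/
theorem row {G : Type*} [Group G] [Finite G] (h : Spor.IsoJ4 G) : LfRow G := by
  obtain ⟨-, -, ⟨F⟩⟩ := KFacts.J4.Base.exists_full h
  exact row_of_frame F.C.toFrame

end Cfsg.Agent.H2.JFour
end

-- part: H2/RgdRows
section
/-!
# `LfRow` for `L₃(q)`, `PSp₄(q)`, `G₂(q)`, `³D₄(q)`, `q ≥ 4` even (helper2)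
-/

set_option autoImplicit false
set_option linter.unusedSectionVars false

namespace Cfsg.Agent.H2.RgdRows

open Cfsg Cfsg.Lie Matrix
open CoxeterSystem Cfsg.Agent.ChevalleyStructure.CoxeterGeom Cfsg.Agent.Tits.Roots Cfsg.Agent.Tits.Core
  Cfsg.Agent.Nodes.BNOf
open Cfsg.Agent.H1.RgdRow Cfsg.Agent.H1.RankTwo Cfsg.Agent.H1.RowExc Cfsg.Agent.H2.Rgd
open scoped commutatorElement

universe u v w

theorem perfect_range {Q Y : Type*} [Group Q] [Group Y] (hQ : Group.IsPerfect Q) (φ : Q →* Y) :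
    ⁅φ.range, φ.range⁆ = φ.range := by
  rw [MonoidHom.range_eq_map, ← Subgroup.map_commutator]
  congr 1
  exact (Group.isPerfect_def).1 hQ

/-- the centre of a group isomorphic to a nonabelian simple group -/
theorem center_eq_bot {G Y : Type*} [Group G] [IsSimpleGroup G] [Group Y] (hG : ¬ IsMulCommutative G) (e : G ≃* Y) :
    Subgroup.center Y = ⊥ := by
  have h1 : Subgroup.center G = ⊥ := by
    rcases (inferInstance : (Subgroup.center G).Normal).eq_bot_or_eq_top with h | h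
    · exact h
    · exact (hG (by rwa [← Subgroup.center_eq_top_iff])).elim
  rw [eq_bot_iff]
  intro y hy
  have h2 : e.symm y ∈ Subgroup.center G := by
    rw [Subgroup.mem_center_iff] at hy ⊢
    intro g
    apply e.injective
    rw [map_mul, map_mul, e.apply_symm_apply]
    exact hy (e g)
  rw [h1, Subgroup.mem_bot] at h2
  rw [Subgroup.mem_bot, ← e.apply_symm_apply y, h2, map_one]

theorem perfect_sl (F : Type w) [Field F] [Fintype F] [CharP F 2] (h4 : 4 ≤ Fintype.card F) :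
    Group.IsPerfect (SpecialLinearGroup (Fin 2) F) := by
  have := simple_sl F h4
  exact (isQuasisimple_of_simple _ (not_comm_sl F h4)).1

section psl

open Cfsg.Agent.H1.RowPSL Cfsg.Agent.H1.EmbSL Cfsg.Agent.Nodes.RGDTypeA Cfsg.Agent.LieClassical.SLGen

variable {F : Type w} [Field F] [Fintype F] [CharP F 2]

/-- **`L₃(q)`, `q ≥ 4` even** -/
theorem row_psl_three (h4 : 4 ≤ Fintype.card F) {G : Type v} [Group G] [IsSimpleGroup G] (hG : ¬ IsMulCommutative G)
    (e : G ≃* ProjectiveSpecialLinearGroup (Fin 3) F) : LfRow G := by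
  have : Finite (ProjectiveSpecialLinearGroup (Fin (2 + 1)) F) := Quotient.finite _
  obtain ⟨Φ, _, R, -⟩ := exists_filt (F := F) 2
  refine LfRow.congr' e (lfRow_of_rgd R (Nodes.RGDTypeA.G1_psl_eq_top _ _) (center_eq_bot hG e) fun i => ?_)
  unfold KK
  rw [← range_pair]
  exact perfect_range (perfect_sl F h4) _

end psl

section chev

open Cfsg.Agent.Nodes.RGDChev Cfsg.Agent.H1.RowChev

variable {D : ChevalleyDatum} {M : CoxeterMatrix (Fin 2)} {K : Type u} [Field K] [Fintype K] [CharP K 2]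

theorem row_chev (hp : IsType D 2 M) (h4 : 4 ≤ Fintype.card K) {G : Type v} [Group G] [IsSimpleGroup G]
    (hG : ¬ IsMulCommutative G) (e : G ≃* ↥(D.group K)) : LfRow G := by
  have : Finite M.Group := finite_W hp M.toCoxeterSystem
  refine LfRow.congr' e (lfRow_of_filt (Cfsg.Agent.KFacts.RgdFiltChev.filt (K := K) hp M.toCoxeterSystem 2)
    (G1_eq_top hp M.toCoxeterSystem) (center_eq_bot hG e) fun i => ?_)
  obtain ⟨φ, hφ⟩ := Cfsg.Agent.H1.RowChev.range_chev hp (K := K) i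
  unfold KK
  rw [← hφ]
  exact perfect_range (perfect_sl K h4) _

/-- **`PSp₄(q)`, `q ≥ 4` even** -/
theorem row_pSp (h4 : 4 ≤ Fintype.card K) {G : Type v} [Group G] [IsSimpleGroup G]
    (hG : ¬ IsMulCommutative G) (e : G ≃* PSp 2 K) : LfRow G := by
  obtain ⟨f⟩ := ChevalleyStructure.B2Sp4.chevB2_equiv_PSp K
  exact row_chev (D := chevB2) (M := CoxeterMatrix.B 2) (by simp [IsType, typeList]) h4 hG (e.trans f.symm)

/-- **`G₂(q)`, `q ≥ 4` even** -/
theorem row_gTwo (h4 : 4 ≤ Fintype.card K) {G : Type v} [Group G] [IsSimpleGroup G]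
    (hG : ¬ IsMulCommutative G) (e : G ≃* ↥(chevG2.group K)) : LfRow G :=
  row_chev Cfsg.Agent.BiChar.GTwo.isType h4 hG e

end chev

section TwDFour

open Cfsg.Agent.Nodes.RGDChev Cfsg.Agent.BiChar.RankPar Cfsg.Agent.BiChar
open Cfsg.Agent.ChevalleyStructure Cfsg.Agent.Nodes.RGDFoldSL

variable {K : Type} [Field K] [Fintype K] [CharP K 2] {q : ℕ}

/-- **`³D₄(q)`, `q ≥ 4` even** -/
theorem row_twD4 (hq : IsPrimePow q) (h4 : 4 ≤ q) (hK : Fintype.card K = q ^ 3) {G : Type v} [Group G] [IsSimpleGroup G]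
    (hG : ¬ IsMulCommutative G) (e : G ≃* ↥(twistedD4 K q)) : LfRow G := by
  obtain ⟨φ, hφ⟩ := D4Fixed.exists_frob hq hK
  have hle := D4Fixed.twisted_le_fix hK hφ
  have : Finite CoxeterMatrix.G₂.Group := Nodes.RGDChev.finite_W GTwo.isType TwDFour.cs
  have hfin : ∀ i : Fin 2, Finite (Fx φ ((Nodes.RGDTwNode.D4.rest i).length + 1)) := fun i => inferInstance
  have hch : ∀ i : Fin 2, CharP (Fx φ ((Nodes.RGDTwNode.D4.rest i).length + 1)) 2 := fun i =>
    (RingHom.charP_iff _ (Fx φ ((Nodes.RGDTwNode.D4.rest i).length + 1)).subtype.injective 2).2 inferInstance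
  let hft : ∀ i : Fin 2, Fintype (Fx φ ((Nodes.RGDTwNode.D4.rest i).length + 1)) := fun i => Fintype.ofFinite _
  have hcard : ∀ i : Fin 2, 4 ≤ Fintype.card (Fx φ ((Nodes.RGDTwNode.D4.rest i).length + 1)) := by
    intro i
    rw [← Nat.card_eq_fintype_card]
    fin_cases i
    · exact (card_Fx_one hφ hq hK).symm ▸ h4
    · refine (card_Fx_three hφ hK).symm ▸ (h4.trans ?_)
      exact Nat.le_self_pow (by norm_num) q
  refine LfRow.congr' e (lfRow_of_filt (Cfsg.Agent.KFacts.RgdFiltTwAll.filt_fold TwDFour.cs Nodes.RGDTwD4.isCartan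
    Nodes.RGDTwD4.foldData (Nodes.RGDTwD4.foldGrp hφ hle) 2) (Nodes.RGDTwD4.G1_eq_top TwDFour.cs hK hφ)
    (center_eq_bot hG e) fun i => ?_)
  have h1 := perfect_range (perfect_sl _ (hcard i)) (TwDFour.Ph hφ hle i)
  rw [TwDFour.range_Ph hφ hle hK i] at h1
  exact h1

end TwDFour

end Cfsg.Agent.H2.RgdRows
end

-- part: H2/RgdPSL
section
/-!
# `LfRow` for `L₄(q)`, `L₅(q)`, `q` even (helper2)
-/

set_option autoImplicit false
set_option linter.unusedSectionVars false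

namespace Cfsg.Agent.H2.RgdPSL

open Cfsg Matrix
open CoxeterSystem Cfsg.Agent.ChevalleyStructure.CoxeterGeom Cfsg.Agent.Tits.Roots Cfsg.Agent.Tits.Core
  Cfsg.Agent.Nodes.Bruhat Cfsg.Agent.Nodes.StabComb Cfsg.Agent.Nodes.BNOf
open Cfsg.Agent.H1.RgdRow Cfsg.Agent.H1.RankTwo Cfsg.Agent.H1.RowExc Cfsg.Agent.H1.RowPSL Cfsg.Agent.H1.RowPSLFive
  Cfsg.Agent.H1.EmbSL Cfsg.Agent.H2.Rgd Cfsg.Agent.H2.RgdRows
open Cfsg.Agent.Nodes.RGDTypeA Cfsg.Agent.TitsThree.KSideA Cfsg.Agent.LieClassical.SLGen Cfsg.Agent.Nodes.RootsA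
open Cfsg.Agent.LieRecognition.BNCox (cA)
open scoped commutatorElement

universe u v w

variable {F : Type w} [Field F] [Fintype F] [CharP F 2]

theorem row_psl {n : ℕ} [NeZero n] {G : Type v} [Group G] [IsSimpleGroup G] (hG : ¬ IsMulCommutative G)
    (e : G ≃* ProjectiveSpecialLinearGroup (Fin (n + 1)) F) {ι : Type} (J : ι → Finset (Fin n)) (s : ι → ℕ)
    {m : ℕ} (hJ : ∀ k, J k ≠ Finset.univ) (hg : ∀ k, Good (J k) (s k) (m + 3))
    (hcov : ∀ i : Fin n, ∃ k, Blk (s k) (m + 3) i.castSucc ∧ Blk (s k) (m + 3) i.succ) : LfRow G := by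
  have : Finite (ProjectiveSpecialLinearGroup (Fin (n + 1)) F) := Quotient.finite _
  have : Nonempty (Fin n) := ⟨0⟩
  obtain ⟨Φ, _, R, -⟩ := exists_filt (F := F) n
  refine LfRow.congr' e (lfRow_of_rgd_fam R (Nodes.RGDTypeA.G1_psl_eq_top _ _) (center_eq_bot hG e)
    (fun k => (J k : Set (Fin n))) (fun k hk => hJ k (Finset.coe_eq_univ.1 hk))
    (fun k => ((pr n F).comp (emb (blkEmb (hg k).1))).range) (fun k => ?_) (fun k => ?_) fun i => ?_)
  · rw [MonoidHom.range_comp, range_emb, Subgroup.map_iSup]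
    refine iSup_le fun p => (XX_map_le (F := F) (fun h => p.2 ((blkEmb (hg k).1).injective h))
      ((hg k).2.1 _ _ (blk_blkEmb _ _) (blk_blkEmb _ _))).trans ?_
    exact le_sup_right
  · refine perfect_range ?_ _
    rw [Group.isPerfect_def]
    exact Cfsg.Agent.LieClassical.SLGen.commutator_eq_top (by rw [Fintype.card_fin]; omega)
  · obtain ⟨k, h1, h2⟩ := hcov i
    refine ⟨k, ?_⟩
    have h3 : (X F (-sr i)).map (pr n F) ≤ ((pr n F).comp (emb (blkEmb (hg k).1))).range := by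
      rw [MonoidHom.range_comp, X_neg_sr]
      exact Subgroup.map_mono (XX_le_of_blk (hg k).1 (Fin.castSucc_lt_succ).ne' h2 h1)
    exact h3

/-- **`L₄(q)`, `q` even** -/
theorem row_psl_four {G : Type v} [Group G] [IsSimpleGroup G] (hG : ¬ IsMulCommutative G)
    (e : G ≃* ProjectiveSpecialLinearGroup (Fin 4) F) : LfRow G :=
  row_psl (n := 3) (m := 0) hG e (ι := Fin 2) ![{0, 1}, {1, 2}] ![0, 1] (by decide) (by decide) (by decide)

/-- **`L₅(q)`, `q` even** -/
theorem row_psl_five {G : Type v} [Group G] [IsSimpleGroup G] (hG : ¬ IsMulCommutative G)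
    (e : G ≃* ProjectiveSpecialLinearGroup (Fin 5) F) : LfRow G :=
  row_psl (n := 4) (m := 1) hG e (ι := Fin 2) ![{0, 1, 2}, {1, 2, 3}] ![0, 1] (by decide) (by decide) (by decide)

end Cfsg.Agent.H2.RgdPSL
end

-- part: H2/Up
section
/-!
# `LfRow` goes up along subgroups of odd index (helper2)
-/

set_option autoImplicit false

namespace Cfsg.Agent.H2

open Subgroup Cfsg Cfsg.Agent.Lib.Cores
open Cfsg.Agent.QTUniq.Local Cfsg.Agent.H7.Faithful

variable {X Y : Type*} [Group X] [Group Y]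

theorem LfAt.map_inj [Finite X] [Finite Y] (f : X →* Y) (hf : Function.Injective f) {T : Subgroup X} (h : LfAt T) :
    LfAt (T.map f) := by
  obtain ⟨H, K, h1, h2, h3, h4, h5⟩ := h
  refine ⟨H.map f, K.map f, map_mono h1, ?_, map_mono h3, ?_, ?_⟩
  · intro hb
    apply h2
    rw [← map_equiv_pCore (H.equivMapOfInjective f hf) 2] at hb
    exact (Subgroup.map_eq_bot_iff_of_injective _ (H.equivMapOfInjective f hf).injective).1 hb
  · rw [← Subgroup.map_commutator, h4]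
  · intro hc
    apply h5
    intro k hk
    rw [mem_centralizer_iff]
    intro z hz
    obtain ⟨⟨hz1, hz2⟩, hz3⟩ := mem_omZ.1 hz
    have hz' : f z ∈ omZ (T.map f) := by
      refine mem_omZ.2 ⟨⟨⟨z, hz1, rfl⟩, ?_⟩, by rw [← map_pow, hz3, map_one]⟩
      rw [mem_centralizer_iff]
      rintro _ ⟨t, ht, rfl⟩
      rw [← map_mul, ← map_mul, mem_centralizer_iff.1 hz2 t ht]
    have h6 := mem_centralizer_iff.1 (hc ⟨k, hk, rfl⟩) _ hz'
    rw [← map_mul, ← map_mul] at h6
    exact hf h6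

/-- **`LfRow` goes up** -/
theorem LfRow.up [Finite X] [Finite Y] (f : X →* Y) (hf : Function.Injective f) (hi : ¬ 2 ∣ f.range.index)
    (h : LfRow X) : LfRow Y := by
  have h2 : Fact (Nat.Prime 2) := ⟨Nat.prime_two⟩
  obtain ⟨T⟩ : Nonempty (Sylow 2 X) := inferInstance
  have hp : IsPGroup 2 ((T : Subgroup X).map f) := T.2.map f
  have hidx : ¬ 2 ∣ ((T : Subgroup X).map f).index := by
    have h3 : ((T : Subgroup X).map f).index = (T : Subgroup X).index * f.range.index := by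
      rw [Subgroup.index_map, (MonoidHom.ker_eq_bot_iff f).2 hf, sup_bot_eq]
    rw [h3, Nat.prime_two.dvd_mul, not_or]
    exact ⟨T.not_dvd_index, hi⟩
  exact LfRow.of_one (hp.toSylow hidx) ((h T).map_inj f hf)

/-- the version with orders -/
theorem LfRow.up_card [Finite X] [Finite Y] (f : X →* Y) (hf : Function.Injective f) {m : ℕ}
    (hm : Nat.card Y = m * Nat.card X) (ho : ¬ 2 ∣ m) (h : LfRow X) : LfRow Y := by
  refine h.up f hf ?_
  have h1 : Nat.card f.range = Nat.card X := (Nat.card_congr (MonoidHom.ofInjective hf).toEquiv).symm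
  have h3 := f.range.index_mul_card
  rw [h1, hm] at h3
  rwa [Nat.eq_of_mul_eq_mul_right Nat.card_pos h3]

end Cfsg.Agent.H2
end

-- part: H2/ANine
section
/-!
# `LfRow` for `A₈`, `A₉` (helper2)
-/

set_option autoImplicit false

namespace Cfsg.Agent.H2.ANine

open Cfsg Equiv

theorem row_eight' : LfRow (alternatingGroup (Fin 8)) := by
  obtain ⟨e⟩ := S0256.result (F := ZMod 2) (ZMod.card 2)
  have : IsSimpleGroup (alternatingGroup (Fin 8)) := alternatingGroup.isSimpleGroup (by simp)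
  refine RgdPSL.row_psl_four (F := ZMod 2) (fun h => ?_) e.symm
  have h1 : Subgroup.center (alternatingGroup (Fin 8)) = ⊥ := alternatingGroup.center_eq_bot (by simp)
  have h2 : Subgroup.center (alternatingGroup (Fin 8)) = ⊤ := Subgroup.center_eq_top_iff.2 h
  rw [h1] at h2
  exact bot_ne_top h2

/-- the embedding `A₈ → A₉` -/
def f89 : Fin 8 ≃ {x : Fin 9 // x ≠ Fin.last 8} where
  toFun i := ⟨i.castSucc, (Fin.castSucc_lt_last i).ne⟩
  invFun x := ⟨x.1.1, by have := x.2; have := x.1.2; have h : x.1.1 ≠ 8 := fun h => x.2 (Fin.ext h); omega⟩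
  left_inv i := rfl
  right_inv x := rfl

def emb : alternatingGroup (Fin 8) →* alternatingGroup (Fin 9) :=
  ((Perm.extendDomainHom f89).comp (alternatingGroup (Fin 8)).subtype).codRestrict _ fun g => by
    rw [Perm.mem_alternatingGroup]
    show Perm.sign (Perm.extendDomain (g : Perm (Fin 8)) f89) = 1
    rw [Perm.sign_extendDomain]
    exact Perm.mem_alternatingGroup.1 g.2

theorem emb_injective : Function.Injective emb := by
  intro a b h
  have h1 := congrArg Subtype.val h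
  exact Subtype.ext (Perm.extendDomainHom_injective f89 h1)

theorem row_nine' : LfRow (alternatingGroup (Fin 9)) := by
  refine row_eight'.up_card emb emb_injective (m := 9) ?_ (by norm_num)
  have h1 := two_mul_nat_card_alternatingGroup (α := Fin 9)
  have h2 := two_mul_nat_card_alternatingGroup (α := Fin 8)
  rw [Nat.card_perm, Nat.card_fin] at h1 h2
  have h3 : Nat.factorial 9 = 9 * Nat.factorial 8 := rfl
  omega

/-- **`LfRow` for `A₈`** -/
theorem row_eight {G : Type*} [Group G] (e : G ≃* alternatingGroup (Fin 8)) : LfRow G := row_eight'.congr e.symm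

/-- **`LfRow` for `A₉`** -/
theorem row_nine {G : Type*} [Group G] (e : G ≃* alternatingGroup (Fin 9)) : LfRow G := row_nine'.congr e.symm

end Cfsg.Agent.H2.ANine
end
end

-- part: H2/Asm31
section
set_option linter.all false
open scoped Cfsg.Agent.FastGrp

-- part: H2/UniqRows
section
/-!
# Groups with a unique maximal 2-local subgroup over a Sylow 2-subgroup (helper2)

`UniqT G` for the Bender groups, `A₅`, `L₂(p)` (`p > 7` next to a power of 2), `L₃(3)`, `M₁₁`.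
-/

set_option autoImplicit false

namespace Cfsg.Agent.H2.UniqRows

open Subgroup Cfsg Cfsg.Agent.Lib.Cores Matrix

universe u v

variable {G : Type u} [Group G]

theorem of_quasi' [Finite G] {x y : G} (hx : x ^ 8 = 1) (hx4 : x ^ 4 ≠ 1) (hy : y * y = 1) (hy1 : y ≠ 1)
    (hy4 : y ≠ x ^ 4) (hyx : y * x = x ^ 3 * y) (hG : ¬ 32 ∣ Nat.card G) : UniqT G := by
  have hf : Fact (Nat.Prime 2) := ⟨Nat.prime_two⟩
  refine UniqT.of_quasi hx hx4 hy ?_ hyx hG
  have hord : orderOf x = 8 := orderOf_eq_prime_pow (p := 2) (n := 2) (by norm_num; exact hx4) (by norm_num; exact hx)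
  rw [mem_zpowers_iff]
  rintro ⟨k, rfl⟩
  rw [← _root_.zpow_add] at hy
  have h1 : ((8 : ℕ) : ℤ) ∣ k + k := by rw [← hord]; exact orderOf_dvd_iff_zpow_eq_one.2 hy
  obtain ⟨m, hm⟩ : ∃ m, k = 4 * m := ⟨k / 4, by omega⟩
  subst hm
  rcases Int.even_or_odd' m with ⟨j, rfl | rfl⟩
  · apply hy1
    rw [show (4 : ℤ) * (2 * j) = ((8 : ℕ) : ℤ) * j by push_cast; ring, _root_.zpow_mul, _root_.zpow_natCast, hx, _root_.one_zpow]
  · apply hy4
    rw [show (4 : ℤ) * (2 * j + 1) = ((8 : ℕ) : ℤ) * j + ((4 : ℕ) : ℤ) by push_cast; ring, _root_.zpow_add, _root_.zpow_mul,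
      _root_.zpow_natCast, hx, _root_.one_zpow, one_mul, _root_.zpow_natCast]

/-- a non-abelian simple group has trivial 2-core -/
theorem pCore_eq_bot [Finite G] [IsSimpleGroup G] (hG : ¬ IsMulCommutative G) : pCore 2 G = ⊥ := by
  have hf : Fact (Nat.Prime 2) := ⟨Nat.prime_two⟩
  have hn : (pCore 2 G).Normal := Lib.Cores.pCore_normal 2
  rcases hn.eq_bot_or_eq_top with h | h
  · exact h
  · exfalso
    have h1 : IsPGroup 2 (⊤ : Subgroup G) := by rw [← h]; exact pCore_isPGroup 2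
    have h2 : IsPGroup 2 G := h1.of_equiv topEquiv
    have h3 := h2.center_nontrivial
    have h4 : center G ≠ ⊥ := (nontrivial_iff_ne_bot _).1 h3
    have h5 := (inferInstance : (center G).Normal).eq_bot_or_eq_top.resolve_left h4
    apply hG
    refine ⟨⟨fun a b => ?_⟩⟩
    have h6 : b ∈ center G := by rw [h5]; exact mem_top b
    exact mem_center_iff.1 h6 a

theorem pCore_congr {K : Type v} [Group K] (e : G ≃* K) (h : pCore 2 G = ⊥) : pCore 2 K = ⊥ := by
  rw [← map_equiv_pCore e 2, h, Subgroup.map_bot]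

/-- a maximal subgroup which is a 2-group -/
theorem of_coatom [Finite G] [Nontrivial G] (hO : pCore 2 G = ⊥) {H : Subgroup G} (hH : IsCoatom H)
    (h2 : IsPGroup 2 H) : UniqT G := by
  obtain ⟨T, hT⟩ := h2.exists_le_sylow
  have hTt : (T : Subgroup G) ≠ ⊤ := by
    intro h
    have h1 : (T : Subgroup G) ≤ pCore 2 G := by
      refine le_pCore ?_ T.2
      rw [h]; infer_instance
    rw [hO, h, top_le_iff] at h1
    exact bot_ne_top h1
  have h3 : H = (T : Subgroup G) := by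
    by_contra hne
    exact hTt (hH.2 _ (lt_of_le_of_ne hT hne))
  exact UniqT.of_coatom hO T (h3 ▸ hH)

/-! ### rank one set-ups -/

section RankOne

open MulAction Cfsg.Agent.LieRecognition.RankOneBasic

theorem of_setup [Finite G] (h2 : 2 ∣ Nat.card G)
    {Ω : Type*} [MulAction G Ω] {a : Ω} {w : G} {Q : Subgroup G} (hS : IsRankOneSetup G Ω a w Q)
    (hQ : IsPGroup 2 Q) : UniqT G := by
  have hf : Fact (Nat.Prime 2) := ⟨Nat.prime_two⟩
  have hfin := finite_points hS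
  have hoddΩ : ¬ 2 ∣ Nat.card Ω := by
    have := odd_card_points hS
    rwa [← Nat.not_even_iff_odd, even_iff_two_dvd] at this
  intro T
  have hT1 : (T : Subgroup G) ≠ ⊥ := Sylow.ne_bot_of_dvd_card T h2
  obtain ⟨t, ht, htt, ht1, -⟩ := exists_central T.2 hT1
  obtain ⟨c, hc⟩ := T.2.nonempty_fixed_point_of_prime_not_dvd_card Ω hoddΩ
  have hcT : ∀ r ∈ (T : Subgroup G), r • c = c := fun r hr => hc ⟨r, hr⟩
  obtain ⟨g, hg⟩ := exists_smul_eq' hS a c
  have hQ1 : Q ≠ ⊥ := by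
    intro h
    have := hS.even_card
    rw [h] at this
    simp at this
  refine Uniq.of_le (N := normalizer (Q.map (MulAut.conj g).toMonoidHom : Set G)) ⟨_, hQ.map _, fun h => hQ1
    ((Subgroup.map_eq_bot_iff_of_injective _ (MulAut.conj g).injective).1 h), rfl⟩ ?_
  rintro M ⟨R, hR, hR1, rfl⟩ hTM m hm
  obtain ⟨u, huR, huu, hu1, huc⟩ := exists_central hR hR1
  obtain ⟨d, hd⟩ := hR.nonempty_fixed_point_of_prime_not_dvd_card Ω hoddΩ
  have hdR : ∀ r ∈ R, r • d = d := fun r hr => hd ⟨r, hr⟩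
  have hMd : ∀ h ∈ normalizer (R : Set G), h • d = d := by
    intro h hh
    refine fixed_unique hS hu1 huu (b := h • d) (c := d) ?_ (hdR u huR)
    have h1 : h⁻¹ * u * h ∈ R := by
      have := (mem_normalizer_iff.1 (inv_mem hh) u).1 huR
      simpa using this
    have h3 := hdR _ h1
    calc u • h • d = h • (h⁻¹ * u * h) • d := by rw [← mul_smul, ← mul_smul]; congr 1; group
      _ = h • d := by rw [h3]
  have hdc : d = c := fixed_unique hS ht1 htt (hMd t (hTM ht)) (hcT t ht)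
  have hmc : m • c = c := by rw [← hdc]; exact hMd m hm
  have h4 : g⁻¹ * m * g ∈ stabilizer G a := by
    rw [mem_stabilizer_iff, mul_smul, mul_smul, hg, hmc, ← hg, inv_smul_smul]
  have h5 := stabilizer_le_normalizer hS h4
  rw [mem_normalizer_iff] at h5 ⊢
  have key : ∀ x : G, x ∈ Q.map (MulAut.conj g).toMonoidHom ↔ g⁻¹ * x * g ∈ Q := by
    intro x
    constructor
    · rintro ⟨y, hy, rfl⟩
      have : g⁻¹ * (g * y * g⁻¹) * g = y := by group
      show g⁻¹ * (g * y * g⁻¹) * g ∈ Q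
      rw [this]; exact hy
    · intro hx
      exact ⟨_, hx, by show g * (g⁻¹ * x * g) * g⁻¹ = x; group⟩
  intro x
  show x ∈ Q.map (MulAut.conj g).toMonoidHom ↔ m * x * m⁻¹ ∈ Q.map (MulAut.conj g).toMonoidHom
  rw [key, key]
  have h6 := h5 (g⁻¹ * x * g)
  have e : g⁻¹ * m * g * (g⁻¹ * x * g) * (g⁻¹ * m * g)⁻¹ = g⁻¹ * (m * x * m⁻¹) * g := by group
  rw [e] at h6
  exact h6

end RankOne

/-! ### the rows -/

/-- `U₃(2ⁿ)` -/
theorem u3 [Finite G] (h2 : 2 ∣ Nat.card G) (F : Type) [Field F] [Fintype F] (n : ℕ) (hn : 1 ≤ n)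
    (hF : Fintype.card F = (2 ^ n) ^ 2) (h : Nonempty (G ≃* PSU 3 F (2 ^ n))) : UniqT G := by
  obtain ⟨e⟩ := h
  have : Fact (Nat.Prime 2) := ⟨Nat.prime_two⟩
  have hfin : Finite (PSU 3 F (2 ^ n)) := Finite.of_equiv _ e.toEquiv
  have hF' : Fintype.card F = 2 ^ (n * 2) := by rw [hF, pow_mul]
  have hch : CharP F 2 := charP_of_card_eq_prime_pow hF'
  have hσ : Fact (∀ x, iterateFrobenius F 2 n (iterateFrobenius F 2 n x) = x) := by
    refine ⟨fun x => ?_⟩
    rw [iterateFrobenius_def, iterateFrobenius_def, ← pow_mul, ← pow_two, ← hF, FiniteField.pow_card]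
  have hF2 : Nat.card F = (2 ^ n) ^ 2 := by rw [Nat.card_eq_fintype_card, hF]
  obtain ⟨H, S, w, ψ, hfaith, hsetup, -, -⟩ :=
    Cfsg.Agent.SuzukiRankOne.PSUModel.exists_model (σ := iterateFrobenius F 2 n) hn
      (fun x => iterateFrobenius_def 2 n x) hF2
  have hS : IsPGroup 2 S := by
    refine IsPGroup.of_card (n := n * 3) ?_
    rw [← Nat.card_congr ψ.toEquiv, Cfsg.Agent.LieRecognition.HermHeis.card_heis
      (Nat.one_lt_two_pow (by omega)) (fun x => iterateFrobenius_def 2 n x) hF2, ← pow_mul]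
  exact (of_setup (by rwa [← Nat.card_congr e.toEquiv]) hsetup hS).congr e

/-- the Suzuki groups -/
theorem sz [Finite G] (h2 : 2 ∣ Nat.card G) (h : Lie.IsoSuzuki G) : UniqT G := by
  obtain ⟨F, iF, iFin, m, hm, hF, ⟨e⟩⟩ := h
  have hfin : Finite ↥(Lie.Sz F (2 ^ (m + 1))) := Finite.of_equiv _ e.toEquiv
  have H := Cfsg.Agent.LieRecognition.SzMatrix.good hF
  have hS : IsPGroup 2 H.unip := by
    refine IsPGroup.of_card (n := (2 * m + 1) * 2) ?_
    rw [H.card_unip, Nat.card_eq_fintype_card, hF, ← pow_mul]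
  exact (of_setup (by rwa [← Nat.card_congr e.toEquiv]) (Cfsg.Agent.SuzukiRankOne.SzModel.setup H) hS).congr e

/-- `L₂(2ⁿ)` -/
theorem l2_even [Finite G] (h2 : 2 ∣ Nat.card G) {F : Type*} [Field F] [Fintype F] [CharP F 2]
    (e : G ≃* ProjectiveSpecialLinearGroup (Fin 2) F) : UniqT G :=
  UniqT.of_elementary h2 fun _ _ hz hz1 hzy => Cfsg.Agent.WeakTI.PslTwo.cent e hz hz1 hzy

/-- the Bender groups -/
theorem bender [Finite G] (h2 : 2 ∣ Nat.card G) (h : IsBenderGroup G) : UniqT G := by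
  rcases h with ⟨F, _, _, hF, -, ⟨e⟩⟩ | ⟨F, _, _, n, hn, hF, h⟩ | h
  · exact l2_even h2 e
  · exact u3 h2 F n (by omega) hF h
  · exact sz h2 h

/-- `A₅` is a Bender group -/
theorem bender_five {G : Type*} [Group G] (e : G ≃* alternatingGroup (Fin 5)) : IsBenderGroup G := by
  have h4 : Nat.card (GaloisField 2 2) = 4 := by
    rw [GaloisField.card 2 2 (by norm_num)]
    norm_num
  letI : Fintype (GaloisField 2 2) := Fintype.ofFinite _
  have h5 : Fintype.card (GaloisField 2 2) = 4 := by rw [← Nat.card_eq_fintype_card, h4]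
  obtain ⟨g⟩ := Cfsg.Agent.S0252.result (F := GaloisField 2 2) h5
  exact Or.inl ⟨GaloisField 2 2, inferInstance, inferInstance, inferInstance, h5.ge, ⟨e.trans g.symm⟩⟩

/-- `L₂(p)`, `p > 7` next to a power of 2 -/
theorem l2 [Finite G] [IsSimpleGroup G] (hG : ¬ IsMulCommutative G) {F : Type*} [Field F] [Fintype F]
    (hp : IsTwoPowerNeighbourPrime (Fintype.card F))
    (h7 : 7 < Fintype.card F) (e : G ≃* ProjectiveSpecialLinearGroup (Fin 2) F) : UniqT G := by
  obtain ⟨hp, hF⟩ := hp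
  have hfin : Finite (ProjectiveSpecialLinearGroup (Fin 2) F) := Finite.of_equiv _ e.toEquiv
  have hnt : Nontrivial (ProjectiveSpecialLinearGroup (Fin 2) F) := e.symm.toEquiv.nontrivial
  have hO := pCore_congr e (pCore_eq_bot hG)
  have hdih : ∀ {H : Subgroup (ProjectiveSpecialLinearGroup (Fin 2) F)} {n k : ℕ}, Nonempty (H ≃* DihedralGroup n) →
      n ≠ 0 → 2 * n = 2 ^ k → IsPGroup 2 H := by
    rintro H n k ⟨f⟩ hn hk
    have : NeZero n := ⟨hn⟩
    refine IsPGroup.of_card (n := k) ?_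
    rw [Nat.card_congr f.toEquiv, DihedralGroup.nat_card, hk]
  set q := Fintype.card F with hq
  have hq9 : q ≠ 9 := by intro h; rw [h] at hp; norm_num at hp
  refine UniqT.congr e ?_
  rcases hF with ⟨k, hk, hF⟩ | ⟨k, hF⟩
  · -- `q = 2 ^ k + 1`
    have hk3 : 3 ≤ k := by
      by_contra hcon
      have : k = 1 ∨ k = 2 := by omega
      rcases this with rfl | rfl <;> norm_num at hF <;> omega
    obtain ⟨j, rfl⟩ : ∃ j, k = j + 1 := ⟨k - 1, by omega⟩
    have hj : 4 ≤ 2 ^ j := by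
      calc 4 = 2 ^ 2 := by norm_num
        _ ≤ 2 ^ j := Nat.pow_le_pow_right (by norm_num) (by omega)
    have hq11 : q ≠ 11 := by
      intro h
      rw [h] at hF
      have h1 : 2 ^ (j + 1) = 10 := by omega
      have h3 : (5 : ℕ) ∣ 2 ^ (j + 1) := by rw [h1]; norm_num
      have := (Nat.Prime.dvd_of_dvd_pow (by norm_num : Nat.Prime 5) h3)
      omega
    obtain ⟨H, hH, hD⟩ := S0812.result (F := F) (q := q) rfl (by simp only [Finset.mem_insert, Finset.mem_singleton]; omega)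
    have hg : Nat.gcd 2 (q - 1) = 2 := by
      rw [hF, Nat.add_sub_cancel]
      exact Nat.gcd_eq_left (dvd_pow_self 2 (by omega))
    have hn : (q - 1) / Nat.gcd 2 (q - 1) = 2 ^ j := by
      rw [hg, hF, Nat.add_sub_cancel, pow_succ]
      omega
    rw [hn] at hD
    exact of_coatom hO hH (hdih (k := j + 1) hD (by positivity) (by rw [pow_succ]; ring))
  · have hk3 : 4 ≤ k := by
      by_contra hcon
      have h1 : 2 ^ k ≤ 2 ^ 3 := Nat.pow_le_pow_right (by norm_num) (by omega)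
      omega
    obtain ⟨j, rfl⟩ : ∃ j, k = j + 1 := ⟨k - 1, by omega⟩
    obtain ⟨H, hH, hD⟩ := S0811.result (F := F) (q := q) rfl (by simp only [Finset.mem_insert, Finset.mem_singleton]; omega)
    have h2j : 2 ^ (j + 1) = 2 * 2 ^ j := by rw [pow_succ]; ring
    have hg : Nat.gcd 2 (q - 1) = 2 := by
      refine Nat.gcd_eq_left ?_
      omega
    have hn : (q + 1) / Nat.gcd 2 (q - 1) = 2 ^ j := by
      rw [hg, hF]
      omega
    rw [hn] at hD
    exact of_coatom hO hH (hdih (k := j + 1) hD (by positivity) h2j.symm)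

/-- `L₃(3)` -/
theorem l33_zmod : UniqT (ProjectiveSpecialLinearGroup (Fin 3) (ZMod 3)) := by
  have h1 := Cfsg.Agent.S0243.result (F := ZMod 3) (ZMod.card 3) 3 (by norm_num)
  rw [Fin.prod_univ_three] at h1
  simp [-Nat.card_eq_fintype_card] at h1
  have h3 : Nat.card (ProjectiveSpecialLinearGroup (Fin 3) (ZMod 3)) = 16 * 351 := by omega
  let X : GL (Fin 2) (ZMod 3) := ⟨!![1, 1; 1, 0], !![0, 1; 1, 2], by decide, by decide⟩
  let Y : GL (Fin 2) (ZMod 3) := ⟨!![1, 0; 2, 2], !![1, 0; 2, 2], by decide, by decide⟩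
  have hinj := Cfsg.Agent.OddHalf.Small.L33.phi_injective 1
  have hmul : ∀ A B : GL (Fin 2) (ZMod 3), (A : Matrix (Fin 2) (Fin 2) (ZMod 3)) = B → A = B := fun A B h => Units.ext h
  refine of_quasi' (x := Cfsg.Agent.TwoFusion.PSL3Inv.phi 1 X) (y := Cfsg.Agent.TwoFusion.PSL3Inv.phi 1 Y)
    ?_ ?_ ?_ ?_ ?_ ?_ (by rw [h3]; decide)
  · rw [← map_pow, show X ^ 8 = 1 from hmul _ _ (by decide), map_one]
  · rw [← map_pow]
    intro h
    have h4 : X ^ 4 = 1 := hinj (h.trans (map_one _).symm)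
    exact absurd (congrArg (fun A : GL (Fin 2) (ZMod 3) => (A : Matrix (Fin 2) (Fin 2) (ZMod 3))) h4) (by decide)
  · rw [← map_mul, show Y * Y = 1 from hmul _ _ (by decide), map_one]
  · intro h
    have h4 : Y = 1 := hinj (h.trans (map_one _).symm)
    exact absurd (congrArg (fun A : GL (Fin 2) (ZMod 3) => (A : Matrix (Fin 2) (Fin 2) (ZMod 3))) h4) (by decide)
  · rw [← map_pow]
    intro h
    have h4 : Y = X ^ 4 := hinj h
    exact absurd (congrArg (fun A : GL (Fin 2) (ZMod 3) => (A : Matrix (Fin 2) (Fin 2) (ZMod 3))) h4) (by decide)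
  · rw [← map_pow, ← map_mul, ← map_mul, show Y * X = X ^ 3 * Y from hmul _ _ (by decide)]

theorem l33 [Finite G] {F : Type*} [Field F] [Fintype F] (hF : Fintype.card F = 3)
    (e : G ≃* ProjectiveSpecialLinearGroup (Fin 3) F) : UniqT G := by
  have hcard : Fintype.card (ZMod 3) = Fintype.card F := by rw [hF, ZMod.card]
  let e' : ZMod 3 ≃+* F := FiniteField.ringEquivOfCardEq hcard
  exact l33_zmod.congr (e.trans (LieClassical.FieldTransfer.pslCongr e').symm)

open Cfsg.Agent.FooteOdd.SporMEleven in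
set_option maxRecDepth 100000 in
theorem m11_aux : (∀ p : GolayPt, ((eT * eW * eT) ^ 8).1 p = p) ∧ ((eT * eW * eT) ^ 4).1 (some 2) ≠ some 2 ∧
    eW.1 (some 2) ≠ some 2 ∧ eW.1 (some 2) ≠ ((eT * eW * eT) ^ 4).1 (some 2) ∧
    ∀ p : GolayPt, (eW * (eT * eW * eT)).1 p = ((eT * eW * eT) ^ 3 * eW).1 p := by decide +kernel

open Cfsg.Agent.FooteOdd.SporMEleven in
/-- `M₁₁` -/
theorem m11 [Finite G] (h : Spor.IsoM11 G) : UniqT G := by
  obtain ⟨e⟩ := h
  obtain ⟨h1, h2, h3, h4, h5⟩ := m11_aux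
  refine UniqT.congr e (of_quasi' (x := eT * eW * eT) (y := eW) (ext11 h1) (fun h => h2 ?_) W_sq W_ne (fun h => h4 ?_)
    (ext11 h5) (by rw [card]; decide))
  · rw [h]; rfl
  · rw [← h]

end Cfsg.Agent.H2.UniqRows
end

-- part: H2/HS
section
/-!
# `LfRow` for `HS` (helper2)

The Sylow 2-subgroup `T` normalizes an elementary abelian subgroup of order 8, whose normalizer contains elements `x`, `y`
with `x² = y³ = (x y)⁷ = 1`.
-/

set_option autoImplicit false
set_option maxRecDepth 100000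

namespace Cfsg.Agent.H2.HS

open Cfsg Subgroup Cfsg.Agent.HN Cfsg.Agent.HN.Pres Cfsg.Agent.HN.HS100 Cfsg.Agent.HN.H0Basic Cfsg.Agent.HN.P1408
open Cfsg.Agent.HN.Classes Cfsg.Agent.HN.WMask Cfsg.Agent.KFacts.HS Cfsg.Agent.KFacts.HS.Cent
open Cfsg.Agent.QTUnique Cfsg.Agent.QTUnique.HS

/-- the words of the generators of `V` -/
def vw (i : Fin 3) : List ℕ := Syl.sw (match i with | 0 => 1 | 1 => 2 | 2 => 5)

/-- an involution -/
def xw : List ℕ := [0, 4, 2, 2, 2, 0, 4]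

/-- an element of order 3 -/
def y3 : List ℕ := [4, 2, 2, 4, 2, 4, 2, 2, 2, 4, 2, 0, 2, 2, 0, 2, 2, 2, 0, 3, 4, 3, 0, 2, 2, 0, 2, 2, 0, 2, 2, 2, 0, 3, 4, 3, 0, 2, 2]

/-- the images of the generators -/
def tb : ℕ → Fin 3 → List (Fin 3)
  | 4, 2 => [0, 2]
  | 7, 1 => [0, 1]
  | 7, 2 => [0, 2]
  | 8, 1 => [0, 1]
  | 8, 2 => [0, 2]
  | 9, 2 => [0, 1, 2]
  | _, i => [i]

def tx : Fin 3 → List (Fin 3) := ![[0], [0, 1], [0, 2]]
def ty : Fin 3 → List (Fin 3) := ![[1], [0, 1, 2], [2]]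

private noncomputable def _root_.Cfsg.Agent.LsF.f1f36c2_0 : {f // @Cfsg.Agent.HN.Syl.sw = f} := ⟨_, by first | (delta Cfsg.Agent.HN.Syl.sw; rewrite [Cfsg.Agent.LsF.getD_eq]; exact rfl) | exact rfl⟩
private noncomputable def _root_.Cfsg.Agent.LsF.f1f36c2_1 : {f // @Cfsg.Agent.H2.HS.vw = f} := ⟨_, by first | (delta Cfsg.Agent.H2.HS.vw; rewrite [Cfsg.Agent.LsF.f1f36c2_0.2]; (try delta Cfsg.Agent.H2.HS.vw.match_1); (try delta Fin.casesOn Nat.casesOn Nat.le.casesOn); exact rfl) | exact rfl⟩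
theorem chkT : ∀ k < 11, ∀ i : Fin 3, ∀ j < 100,
    t1 (Syl.sw k ++ vw i) j = t1 ((tb k i).flatMap vw ++ Syl.sw k) j := by (refine of_decide_eq_true ?_; (try (rewrite [Cfsg.Agent.LsF.f1f36c2_0.2, Cfsg.Agent.LsF.f1f36c2_1.2, Cfsg.Agent.LsF.lappend_pat, Cfsg.Agent.LsF.instDecEq_eq, Cfsg.Agent.LsF.flatMap_eq, Cfsg.Agent.LsF.dBallLT_eq, Cfsg.Agent.LsF.dForallFin_eq, Cfsg.Agent.LsF.decide_eq])); decide +kernel)

theorem chkX : ∀ i : Fin 3, ∀ j < 100, t1 (xw ++ vw i) j = t1 ((tx i).flatMap vw ++ xw) j := by decide +kernel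
theorem chkY : ∀ i : Fin 3, ∀ j < 100, t1 (y3 ++ vw i) j = t1 ((ty i).flatMap vw ++ y3) j := by decide +kernel

theorem chkP : (∀ j < 100, t1 (xw ++ xw) j = t1 [] j) ∧ (∀ j < 100, t1 (y3 ++ (y3 ++ y3)) j = t1 [] j) ∧
    (∀ j < 100, t1 ((List.replicate 7 (xw ++ y3)).flatten) j = t1 [] j) := by decide +kernel

theorem chkZ : (∀ j < 100, t1 (Syl.sw 1) j = t1 zw j) ∧ t1 (y3 ++ zw) 0 ≠ t1 (zw ++ y3) 0 := by decide +kernel

/-- the group `V` on 100 points -/
def V3 : Subgroup (Equiv.Perm (Fin 100)) := closure (Set.range fun i : Fin 3 => φ (hw (vw i)))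

theorem φ_flatMap_mem (l : List (Fin 3)) : φ (hw (l.flatMap vw)) ∈ V3 := by
  induction l with
  | nil => rw [List.flatMap_nil, hw_nil, map_one]; exact one_mem _
  | cons i l ih =>
    rw [List.flatMap_cons, hw_append, map_mul]
    exact mul_mem (subset_closure ⟨i, rfl⟩) ih

theorem norm_of {w : List ℕ} {t : Fin 3 → List (Fin 3)}
    (h : ∀ i : Fin 3, ∀ j < 100, t1 (w ++ vw i) j = t1 ((t i).flatMap vw ++ w) j) :
    φ (hw w) ∈ normalizer (V3 : Set (Equiv.Perm (Fin 100))) := by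
  apply GenTools.mem_normalizer_closure'
  rintro _ ⟨i, rfl⟩
  refine ⟨φ (hw ((t i).flatMap vw)), φ_flatMap_mem _, ?_⟩
  rw [← map_mul, ← map_mul, ← hw_append, ← hw_append]
  exact φ_eq_of (h i)

theorem S_le {s : H0} (hs : s ∈ Syl.S) : φ s ∈ normalizer (V3 : Set (Equiv.Perm (Fin 100))) := by
  have h : Syl.S ≤ (normalizer (V3 : Set (Equiv.Perm (Fin 100)))).comap φ := by
    show Subgroup.closure _ ≤ _
    rw [Subgroup.closure_le]
    rintro _ ⟨k, hk, rfl⟩
    exact norm_of (chkT k hk)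
  exact h hs

section

variable {L : Type*} [Group L] (D : KFacts.HS.Mod L)

theorem vw_mem (i : Fin 3) : hw (vw i) ∈ K := by
  fin_cases i <;> exact mem_K_of_par rfl rfl

theorem xw_mem : hw xw ∈ K := mem_K_of_par rfl rfl
theorem y3_mem : hw y3 ∈ K := mem_K_of_par rfl rfl

theorem vw_T (i : Fin 3) : D.π ⟨hw (vw i), vw_mem i⟩ ∈ QTUnique.HS.T D := by
  have h1 : hw (vw i) ∈ Syl.S := by
    fin_cases i
    · exact Syl.s_mem_S (i := 1) (by norm_num)
    · exact Syl.s_mem_S (i := 2) (by norm_num)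
    · exact Syl.s_mem_S (i := 5) (by norm_num)
  exact ⟨⟨hw (vw i), vw_mem i⟩, FusK0.mem_S0.2 h1, rfl⟩

/-- `V` in `L` -/
noncomputable def V3L : Subgroup L := V3.comap D.φL

theorem V3L_le : V3L D ≤ (QTUnique.HS.T D : Subgroup L) := by
  have h1 : V3 ≤ (QTUnique.HS.T D : Subgroup L).map D.φL := by
    show Subgroup.closure _ ≤ _
    rw [closure_le]
    rintro _ ⟨i, rfl⟩
    exact ⟨_, vw_T D i, D.φL_π _⟩
  intro x hx
  obtain ⟨y, hy, hyx⟩ := h1 hx
  rw [← D.φL_inj hyx]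
  exact hy

theorem mem_normalizer_V3L {x : L} (hx : D.φL x ∈ normalizer (V3 : Set (Equiv.Perm (Fin 100)))) :
    x ∈ normalizer (V3L D : Set L) := by
  rw [mem_normalizer_iff] at hx ⊢
  intro y
  have := hx (D.φL y)
  rw [← map_mul, ← map_inv, ← map_mul] at this
  exact this

theorem T_le : (QTUnique.HS.T D : Subgroup L) ≤ normalizer (V3L D : Set L) := by
  rintro _ ⟨s, hs, rfl⟩
  apply mem_normalizer_V3L
  rw [show D.φL (D.π s) = φ s from D.φL_π s]
  exact S_le (FusK0.mem_S0.1 hs)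

theorem pow_one_of {w : List ℕ} (hw' : hw w ∈ K) (n : ℕ) (h : ∀ j < 100, t1 ((List.replicate n w).flatten) j = t1 [] j) :
    D.π ⟨hw w, hw'⟩ ^ n = 1 := by
  apply D.φL_inj
  rw [map_pow, map_one, show D.φL (D.π ⟨hw w, hw'⟩) = φ (hw w) from D.φL_π _]
  have h1 : ∀ m : ℕ, hw ((List.replicate m w).flatten) = hw w ^ m := by
    intro m
    induction m with
    | zero => simp [hw_nil]
    | succ m ih => rw [List.replicate_succ, List.flatten_cons, hw_append, ih, pow_succ']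
  rw [← map_pow, ← h1, φ_eq_of h, hw_nil, map_one]

include D in
theorem row_of_mod : LfRow L := by
  have h2 : Fact (Nat.Prime 2) := ⟨Nat.prime_two⟩
  have hL : Finite L := D.finite
  have hxy : D.π ⟨hw xw, xw_mem⟩ * D.π ⟨hw y3, y3_mem⟩ = D.π ⟨hw (xw ++ y3), mem_K_of_par rfl rfl⟩ := by
    rw [← map_mul]
    exact congrArg D.π (Subtype.ext (hw_append _ _).symm)
  refine LfRow.of_one (QTUnique.HS.T D) (LfAt.of_pair (QTUnique.HS.T D) (V3L_le D) (T_le D) (z := D.z) ?_ D.zz ?_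
    (x := D.π ⟨hw xw, xw_mem⟩) (y := D.π ⟨hw y3, y3_mem⟩) ?_ ?_ (a := 2) (b := 3) (c := 7) ?_ ?_ ?_ (by norm_num)
    (by norm_num) (by norm_num) (Or.inr ?_))
  · show D.φL D.z ∈ V3
    rw [φL_z, ← φ_eq_of chkZ.1]
    exact subset_closure ⟨0, rfl⟩
  · intro t ht
    exact T_z D ht
  · apply mem_normalizer_V3L
    rw [show D.φL (D.π ⟨hw xw, xw_mem⟩) = φ (hw xw) from D.φL_π _]
    exact norm_of chkX
  · apply mem_normalizer_V3L
    rw [show D.φL (D.π ⟨hw y3, y3_mem⟩) = φ (hw y3) from D.φL_π _]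
    exact norm_of chkY
  · exact pow_one_of D xw_mem 2 (by simpa using chkP.1)
  · exact pow_one_of D y3_mem 3 (by simpa using chkP.2.1)
  · rw [hxy]
    exact pow_one_of D _ 7 chkP.2.2
  · intro h
    have h1 := congrArg D.φL h
    rw [map_mul, map_mul, φL_z, show D.φL (D.π ⟨hw y3, y3_mem⟩) = φ (hw y3) from D.φL_π _, ← map_mul, ← map_mul,
      ← hw_append, ← hw_append] at h1
    have h3 := congrArg (fun f : Equiv.Perm (Fin 100) => ((f 0 : Fin 100) : ℕ)) h1
    exact chkZ.2 ((φ_hw_apply _ 0).symm.trans (h3.trans (φ_hw_apply _ 0)))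

end

/-- **`LfRow` for `HS`** -/
theorem row {G : Type*} [Group G] (h : Spor.IsoHS G) : LfRow G := by
  obtain ⟨D⟩ := exists_mod h
  exact row_of_mod D

end Cfsg.Agent.H2.HS
end

-- part: H2/He
section
/-!
# `LfRow` for `He` (helper2)

`T` normalizes an elementary abelian subgroup `A` of order `2 ^ 6`; the letters `10`, `14` normalize `A` and have the
orders 2, 3 and product of order 5.
-/

set_option autoImplicit false

namespace Cfsg.Agent.H2.He

open Subgroup Cfsg Cfsg.Agent.GH.Pc Cfsg.Agent.GH.Models.Proj Cfsg.Agent.KFacts.He.Words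
open Cfsg.Agent.QTUnique Cfsg.Agent.QTUnique.He

/-- the images of the generators of `A` under the letter `10` -/
def t10 : Fin 6 → List (Fin 6) := ![[0], [1], [2, 4], [3, 5], [4], [5]]

/-- the images of the generators of `A` under the letter `14` -/
def t14 : Fin 6 → List (Fin 6) := ![[2], [3], [0, 2], [1, 3], [1, 3, 4], [0, 1, 2, 3, 5]]

/-- the fifth power of the product -/
def w5 : List ℕ := [10, 14, 10, 14, 10, 14, 10, 14, 10, 14]

theorem chk10 : ∀ i : Fin 6, eqW [10, uA i] ((t10 i).map uA ++ [10]) = true := by decide +kernel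
theorem chk14 : ∀ i : Fin 6, eqW [14, uA i] ((t14 i).map uA ++ [14]) = true := by decide +kernel
private noncomputable def _root_.Cfsg.Agent.LsF.f1f36c2_3 : {f // @Cfsg.Agent.SporadicB.HePerm.act = f} := ⟨_, by first | (delta Cfsg.Agent.SporadicB.HePerm.act List.brecOn List.brecOn.go Cfsg.Agent.SporadicB.HePerm.act._f; (try delta Cfsg.Agent.SporadicB.HePerm.act.match_1); (try delta List.casesOn); first | dsimp -zeta only | exact rfl) | exact rfl⟩
private noncomputable def _root_.Cfsg.Agent.LsF.f1f36c2_4 : {f // @Cfsg.Agent.HeldHe.Model.walk = f} := ⟨_, by first | (delta Cfsg.Agent.HeldHe.Model.walk; rewrite [Cfsg.Agent.LsF.f1f36c2_3.2]; exact rfl) | exact rfl⟩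
private noncomputable def _root_.Cfsg.Agent.LsF.f1f36c2_5 : {f // @Cfsg.Agent.KFacts.He.Words.ex = f} := ⟨_, by first | (delta Cfsg.Agent.KFacts.He.Words.ex; rewrite [Cfsg.Agent.LsF.map_eq, Cfsg.Agent.LsF.flatten_eq]; exact rfl) | exact rfl⟩
private noncomputable def _root_.Cfsg.Agent.LsF.f1f36c2_6 : {f // @Cfsg.Agent.KFacts.He.Words.im = f} := ⟨_, by first | (delta Cfsg.Agent.KFacts.He.Words.im; rewrite [Cfsg.Agent.LsF.f1f36c2_4.2, Cfsg.Agent.LsF.f1f36c2_5.2, Cfsg.Agent.LsF.reverse_eq]; exact rfl) | exact rfl⟩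
private noncomputable def _root_.Cfsg.Agent.LsF.f1f36c2_7 : {f // @Cfsg.Agent.KFacts.He.Words.eqW = f} := ⟨_, by first | (delta Cfsg.Agent.KFacts.He.Words.eqW; rewrite [Cfsg.Agent.LsF.f1f36c2_6.2]; exact rfl) | exact rfl⟩
private noncomputable def _root_.Cfsg.Agent.LsF.f1f36c2_8 : {f // @Cfsg.Agent.QTUnique.He.uA = f} := ⟨_, by first | (delta Cfsg.Agent.QTUnique.He.uA; rewrite [Cfsg.Agent.LsF.vecCons_eq]; exact rfl) | exact rfl⟩
theorem chkP : eqW [10, 10] [] = true ∧ eqW [14, 14, 14] [] = true ∧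
    (∀ i : Fin 6, eqW (uA i :: w5) (w5 ++ [uA i]) = true) ∧ eqW [14, 3] [3, 14] = false ∧ eqW [3, 3] [] = true := by
  (refine of_decide_eq_true ?_; (try (rewrite [Cfsg.Agent.LsF.f1f36c2_7.2, Cfsg.Agent.LsF.f1f36c2_8.2, Cfsg.Agent.LsF.lappend_pat, Cfsg.Agent.LsF.dAnd_eq, Cfsg.Agent.LsF.dBoolEq_eq, Cfsg.Agent.LsF.dForallFin_eq, Cfsg.Agent.LsF.decide_eq])); decide +kernel)

theorem row_model : LfRow Spor.He := by
  obtain ⟨T, hT⟩ := exists_T
  have hxm : ∀ i, x i ∈ Subgroup.closure (Set.range x) := fun i => subset_closure ⟨i, rfl⟩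
  have hV : Subgroup.closure (Set.range fun i => E [uA i]) ≤ (T : Subgroup Spor.He) := by
    rw [hT, closure_le]
    rintro _ ⟨i, rfl⟩
    obtain ⟨k, hk⟩ := uA_mem i
    rw [SetLike.mem_coe]
    show E [uA i] ∈ _
    rw [← hk]
    exact hxm k
  refine LfRow.of_one T (LfAt.of_pair' T hV ?_ (z := E [3]) (subset_closure ⟨1, rfl⟩) ?_ ?_ (x := E [10]) (y := E [14])
    (norm_of uA _ _ chk10) (norm_of uA _ _ chk14) (a := 2) (b := 3) (c := 5) ?_ ?_ ?_ (by norm_num) (by norm_num)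
    (by norm_num) (Or.inr ?_))
  · rw [hT, closure_le]
    rintro _ ⟨j, rfl⟩
    have := norm_of uA _ _ (chkA j.castSucc)
    rw [x_eq] at this
    exact this
  · rw [← E_append, ← E_nil]
    exact E_eq chkP.2.2.2.2
  · intro t ht
    have ht' : t ∈ Subgroup.closure (Set.range x) := by rw [← hT]; exact ht
    have h1 : Subgroup.closure (Set.range x) ≤ Subgroup.centralizer ({E [3]} : Set Spor.He) := by
      rw [closure_le]
      rintro _ ⟨i, rfl⟩
      rw [SetLike.mem_coe, mem_centralizer_singleton_iff]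
      show E [xl i] * E [3] = E [3] * E [xl i]
      rw [← E_append, ← E_append]
      exact E_eq (chkZ ⟨xl i, xl_lt i⟩)
    exact mem_centralizer_singleton_iff.1 (h1 ht')
  · have : E [10] ^ 2 = 1 := by
      rw [pow_two, ← E_append, ← E_nil]
      exact E_eq chkP.1
    rw [this]; exact one_mem _
  · have : E [14] ^ 3 = 1 := by
      rw [pow_succ, pow_two, ← E_append, ← E_append, ← E_nil]
      exact E_eq chkP.2.1
    rw [this]; exact one_mem _
  · have h5 : (E [10] * E [14]) ^ 5 = E w5 := by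
      simp only [pow_succ, pow_zero, one_mul, ← E_append]
      rfl
    rw [h5]
    have h6 : Subgroup.closure (Set.range fun i => E [uA i]) ≤ Subgroup.centralizer ({E w5} : Set Spor.He) := by
      rw [closure_le]
      rintro _ ⟨i, rfl⟩
      rw [SetLike.mem_coe, mem_centralizer_singleton_iff, ← E_append, ← E_append]
      exact E_eq (chkP.2.2.1 i)
    rw [mem_centralizer_iff]
    intro v hv
    exact mem_centralizer_singleton_iff.1 (h6 hv)
  · rw [← E_append, ← E_append]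
    exact E_ne chkP.2.2.2.1

/-- **`LfRow` for `He`** -/
theorem row {G : Type*} [Group G] (h : Spor.IsoHe G) : LfRow G := by
  obtain ⟨e⟩ := h
  exact row_model.congr e.symm

end Cfsg.Agent.H2.He
end

-- part: H2/Ru
section
/-!
# `LfRow` for `Ru` (helper2)

`Z = {z b : b ∈ F₈}` of order 8 is normal in a Sylow 2-subgroup `P`, and the dilates act on `Z` with order 7.
-/

set_option autoImplicit false
set_option maxRecDepth 100000

namespace Cfsg.Agent.H2.Ru

open Cfsg Subgroup Cfsg.Agent.RuB Cfsg.Agent.RuB.Core Cfsg.Agent.RuB.NormZ Cfsg.Agent.RuB.NormQ Cfsg.Agent.KFacts.Ru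
open Cfsg.Agent.Ru127.Form (nor mem_nor mem_cj LocalData cj)
open Cfsg.Agent.QTUnique.Ru

variable {G : Type*} [Group G]

theorem card_K8 : Nat.card K8 = 8 := by
  rw [Nat.card_eq_fintype_card]
  rfl

theorem z_inj (C : Core G) : Function.Injective C.z := by
  intro a b h
  have h1 : C.z (a + b) = 1 := by rw [C.z_add, h, C.z_sq]
  exact K8.add_eq_zero (C.z_eq_one h1)

theorem card_Zs (C : Core G) : Nat.card ↥(Zs C) = 8 := by
  rw [← card_K8]
  refine (Nat.card_congr (Equiv.ofBijective (fun b : K8 => (⟨C.z b, z_mem_Zs b⟩ : ↥(Zs C))) ⟨?_, ?_⟩)).symm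
  · intro a b h
    exact z_inj C (show C.z a = C.z b from congrArg (fun w : ↥(Zs C) => (w : G)) h)
  · rintro ⟨x, b, rfl⟩
    exact ⟨b, rfl⟩

theorem row_of_core [Finite G] (C : Core G) : LfRow G := by
  have hz1 : C.z 1 ≠ 1 := fun h => one_ne_zero (C.z_eq_one h)
  obtain ⟨P, -, hPz, hPQ, hPn, hPc⟩ := InvC.exists_sylow C
  obtain ⟨k, hk0, hk1⟩ : ∃ k : K8, k ≠ 0 ∧ k ≠ 1 := by decide +kernel
  have hk4 : k ^ 4 ≠ 1 := by
    intro h
    apply hk1
    have h8 := K8.pow_eight k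
    calc k = k ^ 8 := h8.symm
      _ = (k ^ 4) ^ 2 := by rw [← pow_mul]
      _ = 1 := by rw [h, one_pow]
  set u : K8ˣ := Units.mk0 k hk0 with hu
  have hact : ∀ (n : ℕ) (a : K8), (C.dk u) ^ n * C.z a * ((C.dk u) ^ n)⁻¹ = C.z (a * (k ^ 4) ^ n) := by
    intro n
    induction n with
    | zero => intro a; simp
    | succ n ih =>
      intro a
      have h1 : (C.dk u) ^ (n + 1) * C.z a * ((C.dk u) ^ (n + 1))⁻¹ =
          (C.dk u) ^ n * (C.dk u * C.z a * (C.dk u)⁻¹) * ((C.dk u) ^ n)⁻¹ := by rw [pow_succ]; group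
      rw [h1, C.dk_z, ih]
      congr 1
      show a * k ^ 4 * (k ^ 4) ^ n = a * (k ^ 4) ^ (n + 1)
      ring
  refine LfRow.of_one P (LfAt.of_eight P (V := Zs C) (fun x hx => ?_) (fun x hx => mem_normalizer_of_nor (hPn x hx))
    (card_Zs C) ?_ (g := C.dk u) (mem_normalizer_of_nor (dk_mem_nor u)) ?_ ?_ ?_)
  · obtain ⟨b, rfl⟩ := hx
    exact hPQ _ (z_mem_QQ b)
  · rintro _ ⟨b, rfl⟩
    exact C.z_sq b
  · rw [mem_centralizer_iff]
    rintro _ ⟨b, rfl⟩
    have h1 := hact 7 b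
    have h2 : (k ^ 4) ^ 7 = 1 := by
      have h8 := K8.pow_eight (k ^ 4)
      have h9 : k ^ 4 * ((k ^ 4) ^ 7) = k ^ 4 * 1 := by rw [← pow_succ', mul_one]; exact h8
      exact mul_left_cancel₀ (pow_ne_zero 4 hk0) h9
    rw [h2, mul_one] at h1
    exact (mul_inv_eq_iff_eq_mul.1 h1).symm
  · intro h
    have h1 := hact 1 1
    rw [pow_one, pow_one, one_mul] at h1
    have h2 := mem_centralizer_iff.1 h (C.z 1) (z_mem_Zs 1)
    rw [← h2, mul_inv_cancel_right] at h1
    exact hk4 (z_inj C h1).symm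
  · intro h
    have h1 := hPc (C.z k) fun x hx => (mem_centralizer_iff.1 (h hx) _ (z_mem_Zs k)).symm
    rcases h1 with h1 | h1
    · exact hk0 (C.z_eq_one h1)
    · exact hk1 (z_inj C h1)

/-- **`LfRow` for `Ru`** -/
theorem row {G : Type*} [Group G] [Finite G] (h : Spor.IsoRu G) : LfRow G := by
  obtain ⟨C, -⟩ := exists_core h
  exact row_of_core C

end Cfsg.Agent.H2.Ru
end

-- part: H2/LFourThree
section
/-!
# `LfRow` for `L₄(3)` (helper2)
-/

set_option autoImplicit false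

namespace Cfsg.Agent.H2.LFourThree

open Subgroup Cfsg Matrix
open Cfsg.Agent.GH.Pc Cfsg.Agent.GH.PcTypes Cfsg.Agent.GH.Models.Proj Cfsg.Agent.GH.Models.PSL43
open Cfsg.Agent.LargeExtra.W2.LFour Cfsg.Agent.QTUnique.LFourThree

/-- an involution -/
def xx : S4 := ⟨!![1,0,1,0;0,2,0,2;1,0,2,0;0,2,0,1], by decide +kernel⟩

/-- an element of order 3 -/
def yy : S4 := ⟨!![1,1,0,0;2,0,0,0;0,0,2,1;0,0,0,2], by decide +kernel⟩

theorem ea_xx : ∀ i : Fin 4, ∃ (l : Fin 4 → Bool) (c : ZMod 3),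
    (xx * ea i).1 = c • (word ea ((List.finRange 4).filter fun i => l i) * xx).1 := by (refine of_decide_eq_true ?_; (try (delta Cfsg.Agent.GH.Pc.word; rewrite [Cfsg.Agent.LsF.zdecEq_eq, Cfsg.Agent.LsF.zFintype_eq, Cfsg.Agent.LsF.dExists_eq, Cfsg.Agent.LsF.dMat_eq, Cfsg.Agent.LsF.instZMul_pat, Cfsg.Agent.LsF.map_eq, Cfsg.Agent.LsF.filter_eq, Cfsg.Agent.LsF.prod_eq, Cfsg.Agent.LsF.dForallFin_eq, Cfsg.Agent.LsF.finRange_eq, Cfsg.Agent.LsF.decide_eq])); decide +kernel)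

theorem ea_yy : ∀ i : Fin 4, ∃ (l : Fin 4 → Bool) (c : ZMod 3),
    (yy * ea i).1 = c • (word ea ((List.finRange 4).filter fun i => l i) * yy).1 := by (refine of_decide_eq_true ?_; (try (delta Cfsg.Agent.GH.Pc.word; rewrite [Cfsg.Agent.LsF.zdecEq_eq, Cfsg.Agent.LsF.zFintype_eq, Cfsg.Agent.LsF.dExists_eq, Cfsg.Agent.LsF.dMat_eq, Cfsg.Agent.LsF.instZMul_pat, Cfsg.Agent.LsF.map_eq, Cfsg.Agent.LsF.filter_eq, Cfsg.Agent.LsF.prod_eq, Cfsg.Agent.LsF.dForallFin_eq, Cfsg.Agent.LsF.finRange_eq, Cfsg.Agent.LsF.decide_eq])); decide +kernel)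

theorem sq_xx : ∃ c : ZMod 3, (xx ^ 2).1 = c • (1 : S4).1 := by decide +kernel
theorem cb_yy : ∃ c : ZMod 3, (yy ^ 3).1 = c • (1 : S4).1 := by decide +kernel
theorem pw_xy : ∃ c : ZMod 3, ((xx * yy) ^ 5).1 = c • (1 : S4).1 := by decide +kernel
theorem zz_sq : ∃ c : ZMod 3, (zz * zz).1 = c • (1 : S4).1 := by decide +kernel

theorem ne_z : ¬ ((∃ c : ZMod 3, (xx * zz).1 = c • (zz * xx).1) ∧ ∃ c : ZMod 3, (yy * zz).1 = c • (zz * yy).1) := by
  decide +kernel

theorem row_three : LfRow G4 := by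
  obtain ⟨T, hT⟩ := exists_T
  have hV : Subgroup.closure (Set.range fun i => pr (ea i)) ≤ (T : Subgroup G4) := by rw [hT]; exact ea_le
  have hmem : ∀ i : Fin 4, pr (a ⟨i.val + 3, by omega⟩) ∈ Subgroup.closure (Set.range fun i => pr (ea i)) :=
    fun i => subset_closure ⟨i, rfl⟩
  refine LfRow.of_one T (LfAt.of_pair T hV ?_ (z := pr zz) ?_ ?_ ?_ (x := pr xx) (y := pr yy)
    (norm_of ea xx ea_xx) (norm_of ea yy ea_yy) (a := 2) (b := 3) (c := 5) ?_ ?_ ?_ (by norm_num) (by norm_num)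
    (by norm_num) ?_)
  · rw [hT, closure_le]
    rintro _ ⟨j, rfl⟩
    exact norm_of ea (a j) (ea_a j)
  · unfold zz
    rw [map_mul, map_mul, map_mul]
    exact mul_mem (mul_mem (mul_mem (hmem 0) (hmem 1)) (hmem 2)) (hmem 3)
  · rw [← map_mul, ← map_one pr]
    exact pr_eq zz_sq
  · intro t ht
    have ht' : t ∈ Subgroup.closure (Set.range x) := by rw [← hT]; exact ht
    have h1 : Subgroup.closure (Set.range x) ≤ Subgroup.centralizer ({pr zz} : Set G4) := by
      rw [closure_le]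
      rintro _ ⟨i, rfl⟩
      rw [SetLike.mem_coe, mem_centralizer_singleton_iff]
      show pr (a i) * pr zz = pr zz * pr (a i)
      rw [← map_mul, ← map_mul]
      exact pr_eq (comm_a i)
    exact mem_centralizer_singleton_iff.1 (h1 ht')
  · rw [← map_pow, ← map_one pr]
    exact pr_eq sq_xx
  · rw [← map_pow, ← map_one pr]
    exact pr_eq cb_yy
  · rw [← map_mul, ← map_pow, ← map_one pr]
    exact pr_eq pw_xy
  · by_contra hcon
    push Not at hcon
    rw [← map_mul, ← map_mul, ← map_mul, ← map_mul] at hcon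
    exact ne_z ⟨eq_smul hcon.1, eq_smul hcon.2⟩

/-- **`LfRow` for `PSL₄(F)`, `|F| = 3`** -/
theorem row {F : Type*} [Field F] [Fintype F] (hF : Fintype.card F = 3) :
    LfRow (ProjectiveSpecialLinearGroup (Fin 4) F) := by
  obtain ⟨f⟩ := PslFacts.psl_congr F hF
  exact row_three.congr f

end Cfsg.Agent.H2.LFourThree
end

-- part: H2/MTwentyTwo
section
/-!
# `LfRow` for `M22` (helper2)

`V` is the pointwise stabilizer of a hexad, of order 16; `x`, `y` normalize `V`, `x² = y³ = (x y)⁵ = 1`.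
-/

set_option autoImplicit false
set_option maxRecDepth 100000

namespace Cfsg.Agent.H2.MTwentyTwo

open Cfsg Subgroup Cfsg.Agent.GH.Pc Cfsg.Agent.SporadicStructure.M24El Cfsg.Agent.H2.WM Cfsg.Agent.H2.GolayEv

/-- a polycyclic series of a Sylow 2-subgroup, `x` and `y` -/
def gl : List ℕ := [976990105829392847739289005721748544, 984724508489452699215480746259449888,
  984202951082164080105044112956360736, 965128854020860192151391391390468128, 979121071158219704299181131031480352,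
  972512676110088067912772961567868960, 976448692869377735270425038196672544, 976768299277413956938701513523627072,
  965010690152576531343407554825849280]

private noncomputable def _root_.Cfsg.Agent.GolayF.f0 : {f // @Cfsg.Agent.H2.GolayEv.fx = f} :=
  ⟨_, by delta Cfsg.Agent.H2.GolayEv.fx Cfsg.Agent.SporadicStructure.M24El.ok; rewrite [Cfsg.Agent.GolayF.papp_eq, Cfsg.Agent.GolayF.isPerm_eq, Cfsg.Agent.GolayF.isAut_eq]; exact rfl⟩

theorem gl_ok : ∀ P ∈ gl, fx P = true := by (rewrite [Cfsg.Agent.GolayF.f0.2]; decide +kernel)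

def P : Pres 7 where
  sq _ := []
  cj i j := match i.val, j.val with
    | 0, 1 => [1, 2]
    | 0, 3 => [3, 4, 5, 6]
    | 0, 4 => [4, 6]
    | 0, 5 => [5, 6]
    | 1, 3 => [3, 5, 6]
    | 1, 4 => [4, 5]
    | 2, 3 => [3, 5]
    | 2, 4 => [4, 6]
    | _, _ => [j]

theorem P_ok : P.Ok := by decide

def tw (i : Fin 7) : List ℕ := [i.val]

def vw : Fin 4 → List (Fin 7) := ![[3], [4], [5], [6]]

def tT (k : Fin 7) : Fin 4 → List (Fin 4) :=
  match k.val with
  | 0 => ![[0, 1, 2, 3], [1, 3], [2, 3], [3]]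
  | 1 => ![[0, 2, 3], [1, 2], [2], [3]]
  | 2 => ![[0, 2], [1, 3], [2], [3]]
  | _ => ![[0], [1], [2], [3]]

def tx : Fin 4 → List (Fin 4) := ![[0, 1], [1], [2, 3], [3]]
def ty : Fin 4 → List (Fin 4) := ![[1, 3], [2], [1, 2], [0, 1, 2, 3]]

private noncomputable def _root_.Cfsg.Agent.GolayF.f1 : {f // @Cfsg.Agent.H2.GolayEv.eqG = f} :=
  ⟨_, by delta Cfsg.Agent.H2.GolayEv.eqG Cfsg.Agent.H2.GolayEv.eqP Cfsg.Agent.SporadicStructure.M24El.prodW Cfsg.Agent.SporadicStructure.M24El.prodW._f; rewrite [Cfsg.Agent.GolayF.papp_eq, Cfsg.Agent.GolayF.pcomp_eq]; exact rfl⟩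

theorem row_22 : LfRow Spor.M22 :=
  (ev22 gl_ok).row P_ok tw (by (rewrite [Cfsg.Agent.GolayF.f1.2]; decide +kernel)) (by (rewrite [Cfsg.Agent.GolayF.f1.2]; decide +kernel)) (by (rewrite [Cfsg.Agent.GolayF.f1.2]; decide +kernel))
    (by rw [Cfsg.Agent.SporadicA.MathieuRecog.card_M22]; decide) vw tT (by (rewrite [Cfsg.Agent.GolayF.f1.2]; decide +kernel)) [3]
    (by (rewrite [Cfsg.Agent.GolayF.f1.2]; decide +kernel)) (by (rewrite [Cfsg.Agent.GolayF.f1.2]; decide +kernel)) [7] [8] tx ty (by (rewrite [Cfsg.Agent.GolayF.f1.2]; decide +kernel)) (by (rewrite [Cfsg.Agent.GolayF.f1.2]; decide +kernel)) (a := 2) (b := 3) (c := 5)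
    (by (rewrite [Cfsg.Agent.GolayF.f1.2]; decide +kernel)) (by (rewrite [Cfsg.Agent.GolayF.f1.2]; decide +kernel)) (by (rewrite [Cfsg.Agent.GolayF.f1.2]; decide +kernel)) (by norm_num) (by norm_num) (by norm_num)
    (by (rewrite [Cfsg.Agent.GolayF.f1.2]; decide +kernel))

/-- **`LfRow` for `M22`** -/
theorem row {G : Type*} [Group G] (h : Spor.IsoM22 G) : LfRow G := by
  obtain ⟨e⟩ := h
  exact row_22.congr e.symm

end Cfsg.Agent.H2.MTwentyTwo
end

-- part: H2/MTwentyThree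
section
/-!
# `LfRow` for `M23` (helper2)
-/

set_option autoImplicit false

namespace Cfsg.Agent.H2.MTwentyThree

open Cfsg

theorem row_23 : LfRow Spor.M23 := by
  have hle : Spor.M22 ≤ Spor.M23 := inf_le_left
  have hc : Nat.card Spor.M23 = 23 * Nat.card Spor.M22 := by
    rw [Cfsg.Agent.SporadicA.MathieuRecog.card_M22, Cfsg.Agent.SporadicA.MathieuRecog.card_M23]
  exact MTwentyTwo.row_22.up_card (Subgroup.inclusion hle) (Subgroup.inclusion_injective hle) hc (by norm_num)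

/-- **`LfRow` for `M23`** -/
theorem row {G : Type*} [Group G] (h : Spor.IsoM23 G) : LfRow G := by
  obtain ⟨e⟩ := h
  exact row_23.congr e.symm

end Cfsg.Agent.H2.MTwentyThree
end

-- part: H2/MTwentyFour
section
/-!
# `LfRow` for `M24` (helper2)

`V` is the pointwise stabilizer of an octad, of order 16; `x`, `y` normalize `V`, `x² = y³ = (x y)⁷ = 1`.
-/

set_option autoImplicit false
set_option maxRecDepth 100000

namespace Cfsg.Agent.H2.MTwentyFour

open Cfsg Subgroup Cfsg.Agent.GH.Pc Cfsg.Agent.SporadicStructure.M24El Cfsg.Agent.H2.WM Cfsg.Agent.H2.GolayEv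

/-- a polycyclic series of a Sylow 2-subgroup, `x` and `y` -/
def gl : List ℕ := [677844925350602949116656272327951401, 481973049266706397460587748970956832,
  795122888977552842629103009963022373, 944577587031269305143011292255193120, 187761162640318985090947153890183200,
  475933736082641786795943807898714146, 508424969373168542556093275671365760, 596693691629046116550990400692717664,
  191695004616971959853057081215289728, 475973014991519506389066485154253216, 802421224427592736828224465130636521,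
  437027273597165508712294632722044128]

private noncomputable def _root_.Cfsg.Agent.GolayF.f2 : {f // @Cfsg.Agent.SporadicStructure.M24El.ok = f} :=
  ⟨_, by delta Cfsg.Agent.SporadicStructure.M24El.ok; rewrite [Cfsg.Agent.GolayF.isPerm_eq, Cfsg.Agent.GolayF.isAut_eq]; exact rfl⟩

theorem gl_ok : ∀ P ∈ gl, ok P = true := by (rewrite [Cfsg.Agent.GolayF.f2.2]; decide +kernel)

def P : Pres 10 where
  sq i := match i.val with
    | 2 => [5]
    | _ => []
  cj i j := match i.val, j.val with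
    | 0, 1 => [1, 2, 3, 5]
    | 0, 2 => [2, 5]
    | 0, 3 => [3, 5]
    | 0, 4 => [4, 5]
    | 0, 6 => [6, 7, 8]
    | 1, 2 => [2, 4]
    | 1, 3 => [3, 4]
    | 1, 6 => [6, 9]
    | 1, 7 => [7, 8, 9]
    | 2, 3 => [3, 5]
    | 2, 6 => [6, 7, 8]
    | 2, 8 => [8, 9]
    | 3, 6 => [6, 7]
    | 3, 8 => [8, 9]
    | 4, 6 => [6, 8]
    | 4, 7 => [7, 9]
    | 5, 6 => [6, 9]
    | _, _ => [j]

theorem P_ok : P.Ok := by decide

def tw (i : Fin 10) : List ℕ := [i.val]

def vw : Fin 4 → List (Fin 10) := ![[6], [7], [8], [9]]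

def tT (k : Fin 10) : Fin 4 → List (Fin 4) :=
  match k.val with
  | 0 => ![[0, 1, 2], [1], [2], [3]]
  | 1 => ![[0, 3], [1, 2, 3], [2], [3]]
  | 2 => ![[0, 1, 2], [1], [2, 3], [3]]
  | 3 => ![[0, 1], [1], [2, 3], [3]]
  | 4 => ![[0, 2], [1, 3], [2], [3]]
  | 5 => ![[0, 3], [1], [2], [3]]
  | _ => ![[0], [1], [2], [3]]

def tx : Fin 4 → List (Fin 4) := ![[0, 3], [1, 3], [2, 3], [3]]
def ty : Fin 4 → List (Fin 4) := ![[0], [1, 2, 3], [1, 2], [2]]

private noncomputable def _root_.Cfsg.Agent.LsF.f1f36c2_10 : {f // @Cfsg.Agent.GH.Models.Proj.allB = f} := ⟨_, by first | (delta Cfsg.Agent.GH.Models.Proj.allB Nat.brecOn.go Nat.brecOn Cfsg.Agent.GH.Models.Proj.allB._f; rewrite [Cfsg.Agent.LsF.and_eq]; (try delta Cfsg.Agent.GH.Models.Proj.allB.match_1); (try delta Nat.casesOn); first | dsimp -zeta only | exact rfl) | exact rfl⟩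
private noncomputable def _root_.Cfsg.Agent.LsF.f1f36c2_11 : {f // @Cfsg.Agent.GH.Models.Proj.isZ = f} := ⟨_, by first | (delta Cfsg.Agent.GH.Models.Proj.isZ; rewrite [Cfsg.Agent.LsF.not_eq, Cfsg.Agent.LsF.all_eq, Cfsg.Agent.LsF.finRange_eq]; exact rfl) | exact rfl⟩
private theorem _root_.Cfsg.Agent.KOd48523b.e6.{ku} {M : Nat → Sort ku} (φ : ∀ n, M n) {z : M Nat.zero} {s : ∀ n, M n → M (Nat.succ n)} (h0 : φ Nat.zero = z) (hs : ∀ n, φ (Nat.succ n) = s n (φ n)) (n : Nat) : φ n = @Nat.rec M z s n := Nat.rec h0 (fun n ih => (hs n).trans (congrArg (s n) ih)) n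
private noncomputable def _root_.Cfsg.Agent.KOd48523b.k77.{ku0} : type_of% @Fin.elim0.{ku0} := @(fun x0 x1 => @Fin.rec.{ku0} (nat_lit 0) @(fun x2 => @x0) @(fun x2 x3 => @False.rec.{ku0} @(fun x4 => @x0) (@Nat.not_lt_zero @x2 @x3)) @x1)
private theorem _root_.Cfsg.Agent.KOd48523b.e77.{ku0} : @Fin.elim0.{ku0} = @_root_.Cfsg.Agent.KOd48523b.k77.{ku0} := by delta _root_.Cfsg.Agent.KOd48523b.k77; rfl'
private noncomputable def _root_.Cfsg.Agent.KOd48523b.k140.{ku0} : type_of% @Fin.induction.go.{ku0} := @(letI c0 := @Fin.mk; @(fun x0 x1 x2 x3 x4 x5 => @Nat.rec.{ku0} @(fun x6 => (x7 : @LT.lt.{0} _ _ @x6 (@HAdd.hAdd.{0, 0, 0} _ _ _ _ @x0 ((1 : ℕ)))) → @x1 (@c0 _ @x6 @x7)) @(fun x6 => @Eq.rec.{ku0, (ku0+1)} (Sort ku0) (@x1 (@OfNat.ofNat.{0} _ (nat_lit 0) _)) @(fun x7 x8 => @x7) @x2 (@x1 (@c0 _ ((0 : ℕ)) @x6)) (@Eq.symm.{(ku0+1)} _ _ _ (@Fin.induction.go._proof_1.{ku0} _ _ @x6))) @(fun x6 x7 x8 => @x3 (@c0 _ @x6 (@Nat.lt_of_succ_lt_succ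 _ _ @x8)) (@x7 (@Fin.induction.go._proof_2 _ @x6 @x8))) @x4 @x5))
private theorem _root_.Cfsg.Agent.KOd48523b.e140.{ku0} : @Fin.induction.go.{ku0} = @_root_.Cfsg.Agent.KOd48523b.k140.{ku0} := by delta _root_.Cfsg.Agent.KOd48523b.k140; funext a0 a1 a2 a3 a4 a5; refine (congrFun (_root_.Cfsg.Agent.KOd48523b.e6 (fun a4 a5 => @Fin.induction.go.{ku0} a0 a1 a2 a3 a4 a5) ?_ (fun c0 => ?_) a4) a5 :) <;> (rfl')
private noncomputable def _root_.Cfsg.Agent.KOd48523b.k141.{ku0} : type_of% @Fin.induction.{ku0} := @(fun x0 x1 x2 x3 x4 => @Fin.rec.{ku0} (@Nat.add @x0 (nat_lit 1)) @(fun x5 => @x1 @x5) @(fun x5 x6 => @Cfsg.Agent.KOd48523b.k140.{ku0} _ _ @x2 @x3 @x5 @x6) @x4)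
private theorem _root_.Cfsg.Agent.KOd48523b.e141.{ku0} : @Fin.induction.{ku0} = @_root_.Cfsg.Agent.KOd48523b.k141.{ku0} := by delta _root_.Cfsg.Agent.KOd48523b.k141; rewrite [← Cfsg.Agent.KOd48523b.e140.{ku0}]; rfl'
private noncomputable def _root_.Cfsg.Agent.KOd48523b.k142.{ku0} : type_of% @Fin.cases.{ku0} := @(fun x0 x1 x2 x3 x4 => @Cfsg.Agent.KOd48523b.k141.{ku0} _ @(fun x5 => @x1 @x5) @x2 @(fun x5 x6 => @x3 @x5) @x4)
private theorem _root_.Cfsg.Agent.KOd48523b.e142.{ku0} : @Fin.cases.{ku0} = @_root_.Cfsg.Agent.KOd48523b.k142.{ku0} := by delta _root_.Cfsg.Agent.KOd48523b.k142; rewrite [← Cfsg.Agent.KOd48523b.e141.{ku0}]; rfl'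
private noncomputable def _root_.Cfsg.Agent.KOd48523b.k143.{ku0} : type_of% @Fin.cons.{ku0} := @(fun x0 x1 x2 x3 x4 => @Cfsg.Agent.KOd48523b.k142.{ku0} _ @(fun x5 => @x1 @x5) @x2 @x3 @x4)
private theorem _root_.Cfsg.Agent.KOd48523b.e143.{ku0} : @Fin.cons.{ku0} = @_root_.Cfsg.Agent.KOd48523b.k143.{ku0} := by delta _root_.Cfsg.Agent.KOd48523b.k143; rewrite [← Cfsg.Agent.KOd48523b.e142.{ku0}]; rfl'
private noncomputable def _root_.Cfsg.Agent.KOd48523b.k153 : (by first | exact type_of% @Cfsg.Agent.H2.MTwentyFour.tw | exact Unit : Sort _) := by first | (refine @Subtype.val _ (fun g => @Cfsg.Agent.H2.MTwentyFour.tw = @g) (@Subtype.mk _ _ (@(fun x0 => (@Fin.val (nat_lit 10) @x0) :: [])) ?_); rfl') | exact @Cfsg.Agent.H2.MTwentyFour.tw | exact ()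
private theorem _root_.Cfsg.Agent.KOd48523b.e153 : (by first | exact @Cfsg.Agent.H2.MTwentyFour.tw = @_root_.Cfsg.Agent.KOd48523b.k153 | exact True : Prop) := by first | (delta _root_.Cfsg.Agent.KOd48523b.k153; exact @Subtype.property _ (fun g => @Cfsg.Agent.H2.MTwentyFour.tw = @g) _) | rfl | trivial
private noncomputable def _root_.Cfsg.Agent.KOd48523b.k155s : (by first | exact Subtype (fun g => @Subtype.val.{1} _ _ (@Cfsg.Agent.LsF.f1f36c2_10) = @g) | exact Unit : Sort _) := by first | (refine @Subtype.mk _ _ (@(letI c0 := @PProd.mk.{1, 1}; letI c1 := @Bool.false; @(fun x0 x1 => ((@Nat.rec.{1} @(fun x2 => @PProd.{1, 1} ((((@Fin @x2) → @Bool) → @Bool) → @Bool) (@Nat.rec.{2} @(fun x3 => Type) @PUnit.{1} @(fun x3 x4 => @PProd.{1, 1} ((((@Fin @x3) → @Bool) → @Bool) → @Bool) @x4) @x2)) (@c0 _ _ @(fun x2 => @x2 (@Cfsg.Agent.KOd48523b.k77.{1} _)) @PUnit.unit.{1}) @(fun x2 x3 => @c0 _ _ @(fun x4 => @Bool.rec.{1} @(fun x5 => @Bool) @c1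 (((@x3).1) @(fun (x5 : (@Fin @x2) → @Bool) => @x4 (@Cfsg.Agent.KOd48523b.k143.{1} _ @(fun x6 => @Bool) @c1 @x5))) (((@x3).1) @(fun (x5 : (@Fin @x2) → @Bool) => @x4 (@Cfsg.Agent.KOd48523b.k143.{1} _ @(fun x6 => @Bool) @Bool.true @x5)))) @x3) @x0).1) @x1))) ?_; rewrite [← Cfsg.Agent.KOd48523b.e143.{1}, ← Cfsg.Agent.KOd48523b.e77.{1}]; rfl') | exact ⟨_, rfl⟩ | exact ()
private noncomputable def _root_.Cfsg.Agent.KOd48523b.k155 : (by first | exact type_of% (@Subtype.val _ _ _root_.Cfsg.Agent.KOd48523b.k155s) | exact Unit : Sort _) := by first | exact @Subtype.val _ _ _root_.Cfsg.Agent.KOd48523b.k155s | exact ()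
private theorem _root_.Cfsg.Agent.KOd48523b.e155 : (by first | exact type_of% (show _ = @_root_.Cfsg.Agent.KOd48523b.k155 from @Subtype.property _ _ _root_.Cfsg.Agent.KOd48523b.k155s) | exact True : Prop) := by first | exact @Subtype.property _ _ _root_.Cfsg.Agent.KOd48523b.k155s | trivial
private noncomputable def _root_.Cfsg.Agent.KOd48523b.k156s : (by first | exact Subtype (fun g => @Subtype.val.{1} _ _ (@Cfsg.Agent.LsF.f1f36c2_11) = @g) | exact Unit : Sort _) := by first | (refine @Subtype.mk _ _ (@(fun x0 x1 => @Cfsg.Agent.LsF.all _ (@Cfsg.Agent.LsF.finRange @x0) @(fun x2 => @Bool.rec.{1} @(fun x3 => @Bool) @Bool.true @Bool.false (@x1 @x2)))) ?_; (try delta Cfsg.Agent.LsF.f1f36c2_11 Cfsg.Agent.LsF.not); with_reducible_and_instances rfl) | exact ⟨_, rfl⟩ | exact ()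
private noncomputable def _root_.Cfsg.Agent.KOd48523b.k156 : (by first | exact type_of% (@Subtype.val _ _ _root_.Cfsg.Agent.KOd48523b.k156s) | exact Unit : Sort _) := by first | exact @Subtype.val _ _ _root_.Cfsg.Agent.KOd48523b.k156s | exact ()
private theorem _root_.Cfsg.Agent.KOd48523b.e156 : (by first | exact type_of% (show _ = @_root_.Cfsg.Agent.KOd48523b.k156 from @Subtype.property _ _ _root_.Cfsg.Agent.KOd48523b.k156s) | exact True : Prop) := by first | exact @Subtype.property _ _ _root_.Cfsg.Agent.KOd48523b.k156s | trivial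

theorem row_24 : LfRow M24 :=
  (ev24 gl_ok).row P_ok tw (by (rewrite [Cfsg.Agent.GolayF.f1.2]; decide +kernel)) (by (rewrite [Cfsg.Agent.GolayF.f1.2]; decide +kernel)) (by (rewrite [Cfsg.Agent.GolayF.f1.2]; ((try (rewrite [Cfsg.Agent.LsF.f1f36c2_10.2, Cfsg.Agent.LsF.f1f36c2_11.2, Cfsg.Agent.LsF.or_eq, Cfsg.Agent.LsF.not_eq, Cfsg.Agent.LsF.flatMap_eq, Cfsg.Agent.LsF.filter_eq, Cfsg.Agent.LsF.finRange_eq])); (first | (rewrite [Cfsg.Agent.KOd48523b.e155, Cfsg.Agent.KOd48523b.e156, Cfsg.Agent.KOd48523b.e153]; decide +kernel) | decide +kernel))))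
    (by rw [Cfsg.Agent.SporadicA.M24Trans.card_M24]; decide) vw tT (by (rewrite [Cfsg.Agent.GolayF.f1.2]; decide +kernel)) [3]
    (by (rewrite [Cfsg.Agent.GolayF.f1.2]; decide +kernel)) (by (rewrite [Cfsg.Agent.GolayF.f1.2]; decide +kernel)) [10] [11] tx ty (by (rewrite [Cfsg.Agent.GolayF.f1.2]; decide +kernel)) (by (rewrite [Cfsg.Agent.GolayF.f1.2]; decide +kernel)) (a := 2) (b := 3)
    (c := 7) (by (rewrite [Cfsg.Agent.GolayF.f1.2]; decide +kernel)) (by (rewrite [Cfsg.Agent.GolayF.f1.2]; decide +kernel)) (by (rewrite [Cfsg.Agent.GolayF.f1.2]; decide +kernel)) (by norm_num) (by norm_num) (by norm_num)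
    (by (rewrite [Cfsg.Agent.GolayF.f1.2]; decide +kernel))

/-- **`LfRow` for `M24`** -/
theorem row {G : Type*} [Group G] (h : Spor.IsoM24 G) : LfRow G := by
  obtain ⟨e⟩ := h
  exact row_24.congr e.symm

end Cfsg.Agent.H2.MTwentyFour
end

-- part: H2/UFourThree
section
/-!
# `LfRow` for `U₄(3)` (helper2)

The permutation model of degree 280 (helper844). `V` is elementary abelian of order 16 with normalizer `2⁴.A₆`.
-/

set_option autoImplicit false
set_option maxRecDepth 100000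

namespace Cfsg.Agent.H2.UFourThree

open Cfsg Subgroup Cfsg.Agent.GH.Pc Cfsg.Agent.H2.WM
open Cfsg.Agent.Omega.ML.UFour.Data (ok eqw eq3)
open Cfsg.Agent.Omega.ML.UFour.Perm (wd wd_nil wd_append eqw_spec eq3_of_eq card_K0 psu_iso)
open Cfsg.Agent.SporadicStructure.U43Perm (K0)

/-- the letters modulo 10 -/
def rd (w : List ℕ) : List ℕ := w.map (· % 10)

theorem ok_rd (w : List ℕ) : ok (rd w) = true := by
  unfold ok rd
  rw [List.all_eq_true]
  intro x hx
  obtain ⟨y, -, rfl⟩ := List.mem_map.1 hx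
  rw [Nat.blt_eq]
  exact Nat.mod_lt _ (by norm_num)

/-- the test for equality -/
def eqU (u v : List ℕ) : Bool := eqw (rd u) (rd v)

/-- the model -/
def M : Ev K0 eqU where
  E w := wd (rd w)
  nil := wd_nil
  app u v := by
    unfold rd
    rw [List.map_append, wd_append]
  eq_of u v h := eqw_spec h
  ne_of u v h e := by
    have h1 := eq3_of_eq (ok_rd u) (ok_rd v) e
    have h2 : eqU u v = true := by
      unfold eqU eqw
      rw [ok_rd, ok_rd, h1]
      rfl
    rw [h2] at h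
    exact absurd h (by decide)

def P : Pres 7 where
  sq i := match i.val with
    | 0 => [2, 3]
    | 1 => [5]
    | 2 => [5]
    | _ => []
  cj i j := match i.val, j.val with
    | 0, 1 => [1, 2, 3, 5]
    | 0, 2 => [2, 4, 6]
    | 0, 3 => [3, 4, 6]
    | 0, 4 => [4, 5]
    | 0, 5 => [5, 6]
    | 1, 2 => [2, 5]
    | 1, 3 => [3, 5, 6]
    | 1, 4 => [4, 5]
    | 2, 3 => [3, 5]
    | 2, 4 => [4, 6]
    | _, _ => [j]

theorem P_ok : P.Ok := by decide

/-- a polycyclic series of a Sylow 2-subgroup -/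
def tw : Fin 7 → List ℕ := ![[1, 8, 9, 6], [1, 7, 9], [6, 9], [9, 5], [4, 7], [1, 4], [1]]

def vw : Fin 4 → List (Fin 7) := ![[3], [4], [5], [6]]

def tT (k : Fin 7) : Fin 4 → List (Fin 4) :=
  match k.val with
  | 0 => ![[0, 1, 3], [1, 2], [2, 3], [3]]
  | 1 => ![[0, 2, 3], [1, 2], [2], [3]]
  | 2 => ![[0, 2], [1, 3], [2], [3]]
  | _ => ![[0], [1], [2], [3]]

def xw : List ℕ := [2, 2, 2, 3]
def yw : List ℕ := [0, 0, 0, 0, 1, 0, 0, 1, 0, 0, 0, 0, 0, 0, 1, 0, 0]
def tx : Fin 4 → List (Fin 4) := ![[0, 2], [2], [1, 2], [3]]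
def ty : Fin 4 → List (Fin 4) := ![[1, 3], [1, 2], [0, 2], [1, 2, 3]]

private noncomputable def _root_.Cfsg.Agent.LsF.f1f36c2_18 : {f // @Cfsg.Agent.Omega.ML.UFour.Data.ok = f} := ⟨_, by first | (delta Cfsg.Agent.Omega.ML.UFour.Data.ok; rewrite [Cfsg.Agent.LsF.all_eq]; exact rfl) | exact rfl⟩
private noncomputable def _root_.Cfsg.Agent.LsF.f1f36c2_19 : {f // @Cfsg.Agent.SporadicStructure.PermChain.look = f} := ⟨_, by first | (delta Cfsg.Agent.SporadicStructure.PermChain.look; rewrite [Cfsg.Agent.LsF.nmul_pat, Cfsg.Agent.LsF.nmod_pat, Cfsg.Agent.LsF.npow_pat, Cfsg.Agent.LsF.nshr_pat]; exact rfl) | exact rfl⟩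
private noncomputable def _root_.Cfsg.Agent.LsF.f1f36c2_20 : {f // @Cfsg.Agent.SporadicStructure.PermChain.evalWord = f} := ⟨_, by first | (delta Cfsg.Agent.SporadicStructure.PermChain.evalWord List.brecOn List.brecOn.go Cfsg.Agent.SporadicStructure.PermChain.evalWord._f; rewrite [Cfsg.Agent.LsF.f1f36c2_19.2, Cfsg.Agent.LsF.getD_eq]; (try delta Cfsg.Agent.SporadicStructure.PermChain.evalWord.match_1); (try delta List.casesOn); first | dsimp -zeta only | exact rfl) | exact rfl⟩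
private noncomputable def _root_.Cfsg.Agent.LsF.f1f36c2_21 : {f // @Cfsg.Agent.Omega.ML.UFour.Data.eq3 = f} := ⟨_, by first | (delta Cfsg.Agent.Omega.ML.UFour.Data.eq3; rewrite [Cfsg.Agent.LsF.f1f36c2_20.2, Cfsg.Agent.LsF.and_eq]; exact rfl) | exact rfl⟩
private noncomputable def _root_.Cfsg.Agent.LsF.f1f36c2_22 : {f // @Cfsg.Agent.Omega.ML.UFour.Data.eqw = f} := ⟨_, by first | (delta Cfsg.Agent.Omega.ML.UFour.Data.eqw; rewrite [Cfsg.Agent.LsF.f1f36c2_18.2, Cfsg.Agent.LsF.f1f36c2_21.2, Cfsg.Agent.LsF.and_eq]; exact rfl) | exact rfl⟩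
private noncomputable def _root_.Cfsg.Agent.LsF.f1f36c2_23 : {f // @Cfsg.Agent.H2.UFourThree.rd = f} := ⟨_, by first | (delta Cfsg.Agent.H2.UFourThree.rd; rewrite [Cfsg.Agent.LsF.nmod_pat, Cfsg.Agent.LsF.map_eq]; exact rfl) | exact rfl⟩
private noncomputable def _root_.Cfsg.Agent.LsF.f1f36c2_24 : {f // @Cfsg.Agent.H2.UFourThree.eqU = f} := ⟨_, by first | (delta Cfsg.Agent.H2.UFourThree.eqU; rewrite [Cfsg.Agent.LsF.f1f36c2_22.2, Cfsg.Agent.LsF.f1f36c2_23.2]; exact rfl) | exact rfl⟩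
private noncomputable def _root_.Cfsg.Agent.LsF.f1f36c2_25 : {f // @Cfsg.Agent.H2.UFourThree.tw = f} := ⟨_, by first | (delta Cfsg.Agent.H2.UFourThree.tw; rewrite [Cfsg.Agent.LsF.vecCons_eq]; exact rfl) | exact rfl⟩
theorem row_K0 : LfRow K0 :=
  M.row P_ok tw (by decide +kernel) (by decide +kernel) (by ((try (rewrite [Cfsg.Agent.LsF.f1f36c2_10.2, Cfsg.Agent.LsF.f1f36c2_11.2, Cfsg.Agent.LsF.f1f36c2_24.2, Cfsg.Agent.LsF.f1f36c2_25.2, Cfsg.Agent.LsF.or_eq, Cfsg.Agent.LsF.not_eq, Cfsg.Agent.LsF.flatMap_eq, Cfsg.Agent.LsF.filter_eq, Cfsg.Agent.LsF.finRange_eq])); decide +kernel))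
    (by rw [card_K0]; decide) vw tT (by decide +kernel) [3]
    (by decide +kernel) (by decide +kernel) xw yw tx ty (by decide +kernel) (by decide +kernel) (a := 3) (b := 5) (c := 4)
    (by decide +kernel) (by decide +kernel) (by decide +kernel) (by norm_num) (by norm_num) (by norm_num)
    (by decide +kernel)

/-- **`LfRow` for `U₄(3)`** -/
theorem row {F : Type*} [Field F] [Fintype F] (hF : Fintype.card F = 9) {G : Type*} [Group G] (e : G ≃* PSU 4 F 3) :
    LfRow G := by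
  obtain ⟨f⟩ := psu_iso hF
  exact row_K0.congr (e.trans f).symm

end Cfsg.Agent.H2.UFourThree
end

-- part: H2/RgdU
section
/-!
# `LfRow` for `U₄(q)`, `U₅(q)`, `q ≥ 4` even (helper2)
-/

set_option autoImplicit false
set_option linter.unusedSectionVars false

namespace Cfsg.Agent.H2.RgdU

open Cfsg
open Cfsg.Agent.ChevalleyStructure.CoxeterGeom Cfsg.Agent.Tits.Roots Cfsg.Agent.Nodes.TypeC
open Cfsg.Agent.Nodes.Comb Cfsg.Agent.Nodes.Reps Cfsg.Agent.Nodes.WittRoot Cfsg.Agent.Nodes.BNOf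
open Cfsg.Agent.TitsThree Cfsg.Agent.TitsThree.Siegel Cfsg.Agent.TitsThree.WittFrame Cfsg.Agent.TitsThree.WittWeyl
open Cfsg.Agent.TitsThree.FrameCN
open Cfsg.Agent.Nodes.WittU Cfsg.Agent.Nodes.WittInst
open Cfsg.Agent.Nodes.WittAll (AmbT nn_mem)
open Cfsg.Agent.KFacts.Mult.WittW Cfsg.Agent.KFacts.Mult.WittT
open Cfsg.Agent.KFacts.RgdBorelTits Cfsg.Agent.Nodes.RGDLib Cfsg.Agent.KFacts.RgdFilt Cfsg.Agent.KFacts.RgdFiltWitt
open Cfsg.Agent.H1.WittPerf Cfsg.Agent.H1.QsNode Cfsg.Agent.H1.RgdRow Cfsg.Agent.H1.WittRow Cfsg.Agent.H1.RowU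
open Cfsg.Agent.H2.Rgd Cfsg.Agent.H2.RgdRows
open scoped commutatorElement

universe u v w

/-- **Witt frames of index 2** -/
theorem row_witt {F : Type*} [Field F] {V : Type*} [AddCommGroup V] [Module F V] {H : HForm F V}
    {Fr : Frame H (Fin 2)} {K : Type v} [Group K] (M : Model Fr K) [Finite V] [CharP F 2] [Finite F] [Finite K]
    (hA : AmbT Fr 2 M.I) {q : Fr.Adm} (hq : q.c ≠ 0) {t : F} (ht : t ≠ 0) (ht1 : t ≠ 1) (hσ : H.σ t = t)
    (hZ : Subgroup.center K = ⊥) : LfRow K := by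
  have h2p : Fact (Nat.Prime 2) := ⟨Nat.prime_two⟩
  have hWf : Finite (CoxeterMatrix.B 2).Group := finite_W (CoxeterMatrix.B 2).toCoxeterSystem
  refine lfRow_of_rgd (Nodes.WittAll.rgdC_model M hA hq (CoxeterMatrix.B 2).toCoxeterSystem)
    (Nodes.WittModel.G1_eq_top M (by norm_num) (CoxeterMatrix.B 2).toCoxeterSystem) hZ fun i => ?_
  unfold KK
  refine le_antisymm (Subgroup.commutator_le_self _) ?_
  obtain ⟨k1, k2⟩ := self_comm M hA hq ht ht1 hσ i (D := Nodes.WittModel.X M (sr i) ⊔ Nodes.WittModel.X M (-sr i))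
    le_sup_left le_sup_right
  exact sup_le k1 k2

section U

open Cfsg.Agent.TitsThree.WBridge Cfsg.Agent.TitsThree.KSideU

variable {F : Type w} [Field F] [Fintype F] [CharP F 2] {q : ℕ} (hF : Fintype.card F = q ^ 2) (hq : 3 ≤ q)

include hF hq in
/-- **`U₄(q)`, `q ≥ 4` even** -/
theorem row_psu_four {G : Type v} [Group G] [IsSimpleGroup G] (hG : ¬ IsMulCommutative G) (e : G ≃* PSU 4 F q) :
    LfRow G := by
  obtain ⟨W, hW⟩ := exists_wframe_even hF (m := 2) (N := 4) rfl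
  obtain ⟨p0, hp0, -⟩ := exists_adm hF W
  obtain ⟨t, ht0, ht1, ht⟩ := exists_fixed hF hq
  have : Finite (PSU 4 F q) := Quotient.finite _
  exact LfRow.congr' e (row_witt (KInstU.model hF (by norm_num : 3 ≤ 4) W) (AmbT.of_amb (amb_U hF W) 2) hp0 ht0 ht1
    (by rw [HU_σ]; exact ht) (center_eq_bot hG e))

include hF hq in
/-- **`U₅(q)`, `q ≥ 4` even** -/
theorem row_psu_five {G : Type v} [Group G] [IsSimpleGroup G] (hG : ¬ IsMulCommutative G) (e : G ≃* PSU 5 F q) :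
    LfRow G := by
  obtain ⟨W, hW⟩ := exists_wframe hF (m := 2) (N := 5) (Or.inr rfl)
  obtain ⟨p0, hp0, -⟩ := exists_adm hF W
  obtain ⟨t, ht0, ht1, ht⟩ := exists_fixed hF hq
  have : Finite (PSU 5 F q) := Quotient.finite _
  exact LfRow.congr' e (row_witt (KInstU.model hF (by norm_num : 3 ≤ 5) W) (AmbT.of_amb (amb_U hF W) 2) hp0 ht0 ht1
    (by rw [HU_σ]; exact ht) (center_eq_bot hG e))

end U

end Cfsg.Agent.H2.RgdU
end

-- part: H2/Asm31
section
/-!
# Quasithin groups with `ℒ_f(G, T)` empty: assembly (helper2)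
-/

set_option autoImplicit false

namespace Cfsg.Agent.H2.Asm31

open Subgroup Cfsg Cfsg.Agent.H5

universe u

/-- the conclusion of S1831 -/
def Conc31 (G : Type u) [Group G] : Prop :=
    Cfsg.Spor.IsoJ2 G ∨ Cfsg.Spor.IsoJ3 G ∨
      (∃ (K : Type) (_ : Field K) (_ : Fintype K), Fintype.card K = 8 ∧ Nonempty (G ≃* ↥(Cfsg.Lie.twistedD4 K 2))) ∨
      Cfsg.Lie.IsoTits G ∨
      (∃ (F : Type) (_ : Field F) (_ : Fintype F), Fintype.card F = 9 ∧ Nonempty (G ≃* Cfsg.PSU 3 F 3)) ∨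
      Cfsg.Spor.IsoM12 G ∨
      (∃ (F : Type) (_ : Field F) (_ : Fintype F), Fintype.card F = 2 ∧
        Nonempty (G ≃* Matrix.ProjectiveSpecialLinearGroup (Fin 3) F)) ∨
      Nonempty (G ≃* ↥(alternatingGroup (Fin 6)))

theorem charP_two {F : Type*} [Field F] [Fintype F] {n k : ℕ} (hF : Fintype.card F = (2 ^ n) ^ k) : CharP F 2 := by
  have hf : Fact (Nat.Prime 2) := ⟨Nat.prime_two⟩
  exact charP_of_card_eq_prime_pow (f := n * k) (by rw [hF, pow_mul])

theorem not_psl_two_three {G : Type u} [Group G] [Finite G] [IsSimpleGroup G] (hG : ¬ IsMulCommutative G)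
    {F : Type*} [Field F] [Fintype F] (hF : Fintype.card F = 3)
    (e : G ≃* Matrix.ProjectiveSpecialLinearGroup (Fin 2) F) : False := by
  obtain ⟨f⟩ := Cfsg.Agent.S0251.result hF
  have h2 := two_mul_nat_card_alternatingGroup (α := Fin 4)
  rw [Nat.card_perm, Nat.card_fin] at h2
  have : (4).factorial = 24 := rfl
  have h3 : Nat.card G = 12 := by
    rw [Nat.card_congr (e.trans f).toEquiv]
    omega
  have h4 : Group.IsSolvable G := Cfsg.Agent.LieClassical.Order72.isSolvable_of_card_dvd (by rw [h3]; norm_num)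
  exact hG ⟨⟨IsSimpleGroup.comm_iff_isSolvable.2 h4⟩⟩

/-- **every group on the list is in the conclusion, has `ℒ_f(G, T) ≠ ∅` or has the uniqueness property** -/
theorem trich {G : Type u} [Group G] [Finite G] [IsSimpleGroup G] (hG : ¬ IsMulCommutative G) (h2G : 2 ∣ Nat.card G)
    (hl : IsOnQTKEList G) : Conc31 G ∨ LfRow G ∨ UniqT G := by
  rcases hl with h | h | h | h | h
  · rcases h with h | ⟨F, _, _, hF, h | ⟨h4, ⟨e⟩⟩ | ⟨h4, ⟨e⟩⟩⟩ | ⟨F, _, _, n, hn, hF, ⟨e⟩⟩ | ⟨F, _, _, hF, ⟨e⟩⟩ |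
      ⟨K, _, _, n, hn, hK, h⟩ | h | h
    · exact Or.inr (Or.inr (UniqRows.bender h2G h))
    · rcases Asm30.card_eq_two_or (F := F) with h2 | h4
      · exact Or.inl (Or.inr (Or.inr (Or.inr (Or.inr (Or.inr (Or.inr (Or.inl ⟨F, _, _, h2, h⟩)))))))
      · obtain ⟨e⟩ := h
        exact Or.inr (Or.inl (RgdRows.row_psl_three h4 hG e))
    · exact Or.inr (Or.inl (RgdRows.row_pSp h4 hG e))
    · exact Or.inr (Or.inl (RgdRows.row_gTwo h4 hG e))
    · rcases Nat.lt_or_ge n 2 with h6 | h6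
      · obtain rfl : n = 1 := by omega
        exact Or.inr (Or.inl (UFourTwo.row (by rw [hF]; norm_num) e))
      · have := charP_two hF
        refine Or.inr (Or.inl (RgdU.row_psu_four hF ?_ hG e))
        calc 3 ≤ 2 ^ 2 := by norm_num
          _ ≤ 2 ^ n := Nat.pow_le_pow_right (by norm_num) h6
    · have h16 : Fintype.card F = (2 ^ 2) ^ 2 := by rw [hF]; norm_num
      have := charP_two h16
      exact Or.inr (Or.inl (RgdU.row_psu_five (q := 4) (by rw [hF]; norm_num) (by norm_num) hG e))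
    · rcases Nat.lt_or_ge n 2 with h6 | h6
      · obtain rfl : n = 1 := by omega
        exact Or.inl (Or.inr (Or.inr (Or.inl ⟨K, _, _, by rw [hK]; norm_num, h⟩)))
      · obtain ⟨e⟩ := h
        have := charP_two hK
        refine Or.inr (Or.inl (RgdRows.row_twD4 ?_ ?_ hK hG e))
        · exact Nat.prime_two.isPrimePow.pow (by omega)
        · calc 4 = 2 ^ 2 := by norm_num
            _ ≤ 2 ^ n := Nat.pow_le_pow_right (by norm_num) h6
    · exact Or.inr (Or.inl (TwF.row h))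
    · exact Or.inl (Or.inr (Or.inr (Or.inr (Or.inl h))))
  · obtain ⟨F, _, _, hF, ⟨⟨e⟩⟩ | ⟨⟨e⟩⟩ | ⟨⟨e⟩⟩⟩ := h
    · have : CharP F 2 := charP_of_card_eq_prime hF
      exact Or.inr (Or.inl (RgdPSL.row_psl_four hG e))
    · have : CharP F 2 := charP_of_card_eq_prime hF
      exact Or.inr (Or.inl (RgdPSL.row_psl_five hG e))
    · exact Or.inr (Or.inl (SpSix.row hF e))
  · rcases h with ⟨⟨e⟩⟩ | ⟨⟨e⟩⟩ | ⟨⟨e⟩⟩ | ⟨⟨e⟩⟩
    · exact Or.inr (Or.inr (UniqRows.bender h2G (UniqRows.bender_five e)))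
    · exact Or.inl (Or.inr (Or.inr (Or.inr (Or.inr (Or.inr (Or.inr (Or.inr ⟨e⟩)))))))
    · exact Or.inr (Or.inl (ANine.row_eight e))
    · exact Or.inr (Or.inl (ANine.row_nine e))
  · rcases h with ⟨F, _, _, hF, ⟨e⟩⟩ | ⟨F, _, _, hF, ⟨⟨e⟩⟩ | ⟨⟨e⟩⟩ | ⟨⟨e⟩⟩⟩ | ⟨F, _, _, hF, h | ⟨⟨e⟩⟩⟩
    · rcases Nat.lt_or_ge 7 (Fintype.card F) with h7 | h7
      · exact Or.inr (Or.inr (UniqRows.l2 hG hF h7 e))
      · have hodd := Resid.odd_of_neighbour hF
        have h3 : Fintype.card F = 3 ∨ Fintype.card F = 5 ∨ Fintype.card F = 7 := by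
          have h1 := hF.1.one_lt
          have h8 : Odd (Fintype.card F) := hodd
          obtain ⟨k, hk⟩ := h8
          omega
        rcases h3 with h3 | h3 | h3
        · exact (not_psl_two_three hG h3 e).elim
        · obtain ⟨f⟩ := Cfsg.Agent.S0253.result h3
          exact Or.inr (Or.inr (UniqRows.bender h2G (UniqRows.bender_five (e.trans f))))
        · obtain ⟨f⟩ := Cfsg.Agent.S0255.result (K := ZMod 2) h3 (ZMod.card 2)
          exact Or.inl (Or.inr (Or.inr (Or.inr (Or.inr (Or.inr (Or.inr (Or.inl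
            ⟨ZMod 2, inferInstance, inferInstance, ZMod.card 2, ⟨e.trans f⟩⟩)))))))
    · exact Or.inr (Or.inr (UniqRows.l33 hF e))
    · exact Or.inr (Or.inl ((LFourThree.row hF).congr e.symm))
    · exact Or.inr (Or.inl ((GTwoThree.row hF).congr e.symm))
    · exact Or.inl (Or.inr (Or.inr (Or.inr (Or.inr (Or.inl ⟨F, _, _, hF, h⟩)))))
    · exact Or.inr (Or.inl (UFourThree.row hF e))
  · rcases h with h | h | h | h | h | h | h | h | h | h | h
    · exact Or.inr (Or.inr (UniqRows.m11 h))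
    · exact Or.inl (Or.inr (Or.inr (Or.inr (Or.inr (Or.inr (Or.inl h))))))
    · exact Or.inr (Or.inl (MTwentyTwo.row h))
    · exact Or.inr (Or.inl (MTwentyThree.row h))
    · exact Or.inr (Or.inl (MTwentyFour.row h))
    · exact Or.inl (Or.inl h)
    · exact Or.inl (Or.inr (Or.inl h))
    · exact Or.inr (Or.inl (JFour.row h))
    · exact Or.inr (Or.inl (HS.row h))
    · exact Or.inr (Or.inl (He.row h))
    · exact Or.inr (Or.inl (Ru.row h))

theorem two_dvd {G : Type u} [Group G] [Finite G] {X M : Subgroup G} (h : M ∈ maxTwoLocalsContaining X) :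
    2 ∣ Nat.card G := by
  obtain ⟨Q, h1, h2, -⟩ := h.1.1
  have hf : Fact (Nat.Prime 2) := ⟨Nat.prime_two⟩
  obtain ⟨n, hn⟩ := IsPGroup.iff_card.1 h1
  have h3 : n ≠ 0 := by
    rintro rfl
    exact h2 (Subgroup.eq_bot_of_card_eq Q (by simpa using hn))
  exact ((dvd_pow_self 2 h3).trans hn.symm.dvd).trans (card_subgroup_dvd_card Q)

theorem s1831 {G : Type u} [Group G] [Finite G] [IsSimpleGroup G] (hG : ¬ IsMulCommutative G)
    (hE : IsOfEvenCharacteristic G) (hgen : CGen G) (hl : IsOnQTKEList G) (T : Sylow 2 G)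
    (hT : ∃ M₁ M₂ : Subgroup G, M₁ ∈ Cfsg.maxTwoLocalsContaining (T : Subgroup G) ∧
      M₂ ∈ Cfsg.maxTwoLocalsContaining (T : Subgroup G) ∧ M₁ ≠ M₂)
    (h0 : Cfsg.calLf (T : Subgroup G) = ∅) : Conc31 G := by
  obtain ⟨M₁, M₂, h1, h2, h3⟩ := hT
  rcases trich hG (two_dvd h1) hl with h | h | h
  · exact h
  · have h4 := h.nonempty hE hgen T
    rw [h0] at h4
    exact (Set.not_nonempty_empty h4).elim
  · exact (h3 (h T M₁ h1 M₂ h2)).elim

end Cfsg.Agent.H2.Asm31
end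
end
end
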